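import Cfsg.Agent.FTDown.FeitThompson
import Cfsg.Agent.S2016

/-!
The odd order theorem from the statement S1544 and a maximal subgroup with `κ ≠ ∅`.
-/

set_option autoImplicit false

namespace Cfsg.Agent.FTDown

open Cfsg

universe u

theorem notParabolic : NotParabolic.{u} := fun _ _ _ hG => S2016.result hG

theorem feitThompson_of_finalConfiguration (hk : SomeKappa.{u}) (hfc : FinalConfiguration.{u}) :
    OddOrderGlue.FeitThompson.{u} :=
  feitThompson_of_kappa hk hfc notParabolic

end Cfsg.Agent.FTDown
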