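import Cfsg.Agent.Lib.Components.AutSylow
import Cfsg.Agent.Lib.Components.ZStarInst
import Cfsg.Agent.Lib.OddOrderGlue.Basic

/-!
Automorphisms fixing a Sylow `2`-subgroup of a group without nontrivial normal subgroups of odd
order.
-/

set_option autoImplicit false
set_option linter.style.haveILetI false

namespace Cfsg.Agent.FTDown

open Cfsg Subgroup Cfsg.Agent.Components

universe u

variable {G : Type u} [Group G] [Finite G]

/-- The action of automorphisms on the quotient by the centre. -/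
noncomputable def autModCenter : MulAut G →* MulAut (G ⧸ center G) :=
  MonoidHom.mk' (fun φ => QuotientGroup.congr (center G) (center G) φ
      (Subgroup.characteristic_iff_map_eq.1 inferInstance φ))
    fun a b => MulEquiv.ext fun x => by
      obtain ⟨y, rfl⟩ := QuotientGroup.mk'_surjective (center G) x
      rfl

omit [Finite G] in
theorem autModCenter_mk (φ : MulAut G) (x : G) :
    autModCenter φ (QuotientGroup.mk' (center G) x) = QuotientGroup.mk' (center G) (φ x) := rfl

variable (hO : pPrimeCore 2 G = ⊥)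
include hO

theorem isPGroup_center : IsPGroup 2 ↥(center G) := by
  haveI : Fact (Nat.Prime 2) := ⟨Nat.prime_two⟩
  rw [IsPGroup.iff_card]
  refine ⟨_, Nat.eq_prime_pow_of_unique_prime_dvd Nat.card_pos.ne' fun {q} hq hqd => ?_⟩
  haveI := Fact.mk hq
  by_contra hne
  obtain ⟨z, hz⟩ := exists_prime_orderOf_dvd_card' (G := ↥(center G)) q hqd
  have hzn : (zpowers (z : G)).Normal := ⟨fun n hn g => by
    have hc : n ∈ center G := zpowers_le.2 z.2 hn
    rwa [mem_center_iff.1 hc g, mul_inv_cancel_right]⟩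
  have hle := Thompson.le_pPrimeCore (p := 2) hzn (by
    rw [Nat.card_zpowers, Subgroup.orderOf_coe, hz]
    exact (Nat.coprime_primes hq Nat.prime_two).2 hne)
  rw [hO, le_bot_iff, zpowers_eq_bot, OneMemClass.coe_eq_one] at hle
  rw [hle, orderOf_one] at hz
  exact hq.ne_one hz.symm

theorem pPrimeCore_quotient_center : pPrimeCore 2 (G ⧸ center G) = ⊥ := by
  haveI : Fact (Nat.Prime 2) := ⟨Nat.prime_two⟩
  rw [eq_bot_iff]
  intro x hx
  obtain ⟨g, rfl⟩ := QuotientGroup.mk'_surjective (center G) x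
  set K := (pPrimeCore 2 (G ⧸ center G)).comap (QuotientGroup.mk' (center G)) with hK
  have hKn : K.Normal := inferInstance
  have hZK : center G ≤ K := fun z hz => by
    rw [hK, mem_comap, QuotientGroup.mk'_apply, (QuotientGroup.eq_one_iff z).2 hz]
    exact one_mem _
  obtain ⟨a, ha⟩ := IsPGroup.iff_card.1 (isPGroup_center hO)
  have hco : (Nat.card (pPrimeCore 2 (G ⧸ center G))).Coprime (2 ^ a) :=
    Thompson.card_pPrimeCore_coprime.pow_right a
  set Z := (center G).subgroupOf K with hZdef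
  have hZc : Nat.card Z = 2 ^ a := by
    rw [Nat.card_congr (subgroupOfEquivOfLe hZK).toEquiv, ha]
  have hcK : Nat.card K = Nat.card (pPrimeCore 2 (G ⧸ center G)) * 2 ^ a := by
    rw [hK, Thompson.card_comap_quotient, ha]
  have hidx : Z.index = Nat.card (pPrimeCore 2 (G ⧸ center G)) := by
    have h := Z.index_mul_card
    rw [hZc, hcK] at h
    exact Nat.eq_of_mul_eq_mul_right (by positivity) h
  obtain ⟨M, hM⟩ := exists_right_complement'_of_coprime (N := Z) (by rw [hZc, hidx]; exact hco.symm)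
  have hMc : Nat.card M = Nat.card (pPrimeCore 2 (G ⧸ center G)) := by
    rw [← hM.symm.index_eq_card, hidx]
  have hModd : (Nat.card M).Coprime (2 ^ a) := hMc ▸ hco
  have hdec : ∀ k : K, ∃ z ∈ Z, ∃ m ∈ M, k = z * m := fun k => by
    obtain ⟨⟨z, m⟩, h⟩ := hM.2 k
    exact ⟨z.1, z.2, m.1, m.2, h.symm⟩
  have hin : ∀ k : K, k ^ Nat.card M = 1 → k ∈ M := by
    intro k hk
    obtain ⟨z, hz, m, hm, rfl⟩ := hdec k
    have hzm : Commute z m := Subtype.ext ((mem_center_iff.1 hz m).symm)
    have hmp : m ^ Nat.card M = 1 :=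
      congrArg Subtype.val (pow_card_eq_one' (x := (⟨m, hm⟩ : M)))
    rw [hzm.mul_pow, hmp, mul_one] at hk
    have hz2 : z ^ (2 ^ a) = 1 := by
      rw [← hZc]; exact congrArg Subtype.val (pow_card_eq_one' (x := (⟨z, hz⟩ : Z)))
    have : z = 1 := orderOf_eq_one_iff.1 (Nat.eq_one_of_dvd_coprimes hModd
      (orderOf_dvd_of_pow_eq_one hk) (orderOf_dvd_of_pow_eq_one hz2))
    rwa [this, one_mul]
  have hnorm : (M.map K.subtype).Normal := ⟨by
    rintro _ ⟨m, hm, rfl⟩ h
    refine ⟨⟨h * m * h⁻¹, hKn.conj_mem _ m.2 h⟩, hin _ (Subtype.ext ?_), rfl⟩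
    have hmp : (m : G) ^ Nat.card M = 1 := by
      have h1 := congrArg Subtype.val (pow_card_eq_one' (x := (⟨m, hm⟩ : M)))
      exact congrArg Subtype.val h1
    simp [conj_pow, hmp]⟩
  have hle := Thompson.le_pPrimeCore (p := 2) hnorm (by
    rw [card_map_of_injective K.subtype_injective, hMc]
    exact Thompson.card_pPrimeCore_coprime)
  rw [hO, le_bot_iff] at hle
  obtain ⟨z, hz, m, hm, hg⟩ := hdec ⟨g, hx⟩
  have hm1 : (m : G) = 1 := (eq_bot_iff_forall _).1 hle _ ⟨m, hm, rfl⟩
  rw [mem_bot, QuotientGroup.mk'_apply, QuotientGroup.eq_one_iff]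
  have hg' := congrArg Subtype.val hg
  simp [hm1] at hg'
  rw [hg']
  exact hz

theorem autModCenter_injOn (S : Sylow 2 G) {φ : MulAut G}
    (hφ : φ ∈ fixingSubgroup' (S : Subgroup G)) (h : autModCenter φ = 1) : φ = 1 := by
  haveI : Fact (Nat.Prime 2) := ⟨Nat.prime_two⟩
  let E : Subgroup G := φ.toMonoidHom.eqLocus (MonoidHom.id G)
  have hS : (S : Subgroup G) ≤ E := hφ
  have hodd : ∀ x : G, Odd (orderOf x) → x ∈ E := by
    intro x hx
    have hz : x⁻¹ * φ x ∈ center G :=
      QuotientGroup.eq.1 (show (QuotientGroup.mk x : G ⧸ center G) = QuotientGroup.mk (φ x) from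
        (congrArg (fun a : MulAut (G ⧸ center G) => a (QuotientGroup.mk' (center G) x)) h).symm)
    obtain ⟨z, hz', hzz⟩ : ∃ z ∈ center G, φ x = x * z := ⟨_, hz, by group⟩
    have hzp : z ^ orderOf x = 1 := by
      have h1 : (x * z) ^ orderOf x = 1 := by rw [← hzz, ← map_pow, pow_orderOf_eq_one, map_one]
      rwa [(show Commute x z from mem_center_iff.1 hz' x).mul_pow, pow_orderOf_eq_one, one_mul] at h1
    obtain ⟨k, hk⟩ := isPGroup_center hO ⟨z, hz'⟩
    have : z = 1 := orderOf_eq_one_iff.1 (Nat.eq_one_of_dvd_coprimes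
      ((Nat.coprime_two_left.2 hx).pow_left k)
      (orderOf_dvd_of_pow_eq_one (congrArg Subtype.val hk)) (orderOf_dvd_of_pow_eq_one hzp))
    show φ x = x
    rw [hzz, this, mul_one]
  have hE : E = ⊤ := by
    rw [← index_eq_one]
    by_contra hne
    obtain ⟨q, hq, hqd⟩ := Nat.exists_prime_and_dvd hne
    haveI := Fact.mk hq
    rcases eq_or_ne q 2 with rfl | hq2
    · exact S.not_dvd_index (hqd.trans (index_dvd_of_le hS))
    · obtain ⟨Q⟩ := (inferInstance : Nonempty (Sylow q G))
      have hQ : (Q : Subgroup G) ≤ E := fun x hx => by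
        obtain ⟨k, hk⟩ := IsPGroup.iff_orderOf.1 Q.2 ⟨x, hx⟩
        rw [Subgroup.orderOf_mk] at hk
        exact hodd x (hk ▸ (hq.odd_of_ne_two hq2).pow)
      exact Q.not_dvd_index (hqd.trans (index_dvd_of_le hQ))
  exact MulEquiv.ext fun x => (hE.ge (mem_top x) : φ x = x)

omit hO in
theorem fixing_structure_aux : ∀ (n : ℕ) (G : Type u) [Group G] [Finite G], Nat.card G = n →
    pPrimeCore 2 G = ⊥ → ∀ S : Sylow 2 G,
      (∀ Q : Subgroup (MulAut G), Q ≤ fixingSubgroup' (S : Subgroup G) → IsPGroup 2 Q →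
        ∀ a ∈ Q, ∀ b ∈ Q, a * b = b * a) ∧
      ∃ N : Subgroup ↥(fixingSubgroup' (S : Subgroup G)), N.Normal ∧ Odd (Nat.card N) ∧
        ∃ k, N.index = 2 ^ k := by
  intro n
  induction n using Nat.strong_induction_on with
  | _ n ih =>
    intro G _ _ hn hO S
    haveI : Fact (Nat.Prime 2) := ⟨Nat.prime_two⟩
    haveI : Finite (MulAut G) := Finite.of_injective _ DFunLike.coe_injective
    rcases eq_or_ne (center G) ⊥ with hc | hc
    · refine ⟨fun Q hQ hQ2 => commute_of_isPGroup_fixing zStarProperty hc hO S hQ hQ2, ?_⟩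
      obtain ⟨T⟩ := (inferInstance : Nonempty (Sylow 2 ↥(fixingSubgroup' (S : Subgroup G))))
      obtain ⟨-, N, hN, hNT⟩ := exists_normal_complement_fixing zStarProperty hc hO S T
      refine ⟨N, hN, ?_, ?_⟩
      · rw [← hNT.index_eq_card, ← Nat.not_even_iff_odd, even_iff_two_dvd]
        exact T.not_dvd_index
      · rw [hNT.symm.index_eq_card]
        exact IsPGroup.iff_card.1 T.2
    · let S' : Sylow 2 (G ⧸ center G) := S.mapSurjective (QuotientGroup.mk'_surjective (center G))
      have hlt : Nat.card (G ⧸ center G) < n := by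
        rw [← hn, card_eq_card_quotient_mul_card_subgroup (center G)]
        exact lt_mul_right Nat.card_pos ((one_lt_card_iff_ne_bot _).2 hc)
      obtain ⟨hab, N, hN, hodd, k, hk⟩ :=
        ih _ hlt (G ⧸ center G) rfl (pPrimeCore_quotient_center hO) S'
      have hmem : ∀ φ ∈ fixingSubgroup' (S : Subgroup G),
          autModCenter φ ∈ fixingSubgroup' (S' : Subgroup (G ⧸ center G)) := by
        rintro φ hφ _ ⟨s, hs, rfl⟩
        rw [autModCenter_mk, hφ s hs]
      let f : ↥(fixingSubgroup' (S : Subgroup G)) →*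
          ↥(fixingSubgroup' (S' : Subgroup (G ⧸ center G))) :=
        (autModCenter.comp (Subgroup.subtype _)).codRestrict _ fun φ => hmem φ φ.2
      have hf : Function.Injective f := by
        rw [← MonoidHom.ker_eq_bot_iff, eq_bot_iff]
        intro φ hφ
        exact Subtype.ext (autModCenter_injOn hO S φ.2 (congrArg Subtype.val hφ))
      refine ⟨fun Q hQ hQ2 a ha b hb => ?_, N.comap f, inferInstance, ?_, ?_⟩
      · have hcm := hab (Q.map autModCenter) (by rintro _ ⟨φ, hφ, rfl⟩; exact hmem φ (hQ hφ))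
          (hQ2.map _) _ ⟨a, ha, rfl⟩ _ ⟨b, hb, rfl⟩
        have : autModCenter (a * b * (b * a)⁻¹) = 1 := by
          rw [map_mul, map_inv, map_mul, map_mul, hcm, mul_inv_cancel]
        exact mul_inv_eq_one.1 (autModCenter_injOn hO S
          (mul_mem (mul_mem (hQ ha) (hQ hb)) (inv_mem (mul_mem (hQ hb) (hQ ha)))) this)
      · refine hodd.of_dvd_nat ?_
        rw [Nat.card_congr ((N.comap f).equivMapOfInjective f hf).toEquiv]
        exact card_dvd_of_le (map_comap_le _ _)
      · rw [index_comap]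
        obtain ⟨j, -, hj⟩ := (Nat.dvd_prime_pow Nat.prime_two).1
          (hk ▸ relIndex_dvd_index_of_normal N f.range)
        exact ⟨j, hj⟩

omit hO [Finite G] in
/-- The statement of S0227, given the odd order theorem. -/
theorem fixing_sylow_structure (hFT : OddOrderGlue.FeitThompson.{u}) [Finite G]
    (hO : ∀ N : Subgroup G, N.Normal → Odd (Nat.card N) → N = ⊥) (S : Sylow 2 G)
    (C : Subgroup (MulAut G)) (hC : ∀ φ : MulAut G, φ ∈ C ↔ ∀ s : G, s ∈ S → φ s = s) :
    (∀ T : Sylow 2 ↥C, (∀ a b : ↥T, a * b = b * a) ∧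
      ∃ N : Subgroup ↥C, N.Normal ∧ Subgroup.IsComplement' N (T : Subgroup ↥C)) ∧
    Group.IsSolvable ↥C := by
  haveI : Fact (Nat.Prime 2) := ⟨Nat.prime_two⟩
  haveI : Finite (MulAut G) := Finite.of_injective _ DFunLike.coe_injective
  obtain rfl : C = fixingSubgroup' (S : Subgroup G) := Subgroup.ext hC
  have hO2 : pPrimeCore 2 G = ⊥ := hO _ inferInstance
    (Nat.coprime_two_right.1 Thompson.card_pPrimeCore_coprime)
  obtain ⟨hab, N, hN, hodd, k, hk⟩ := fixing_structure_aux _ G rfl hO2 S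
  refine ⟨fun T => ⟨fun a b => ?_, N, hN, ?_⟩, ?_⟩
  · exact Subtype.ext (Subtype.ext (hab _ (map_subtype_le _) (T.2.map _) _ ⟨a, a.2, rfl⟩ _
      ⟨b, b.2, rfl⟩))
  · obtain ⟨m, hm⟩ := IsPGroup.iff_card.1 T.2
    have h2 : (Nat.card N).Coprime 2 := Nat.coprime_two_right.2 hodd
    have hTc : Nat.card (T : Subgroup ↥(fixingSubgroup' (S : Subgroup G))) = 2 ^ k := by
      have e1 := N.card_mul_index
      rw [hk] at e1
      have e2 := (T : Subgroup ↥(fixingSubgroup' (S : Subgroup G))).card_mul_index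
      rw [hm, ← e1] at e2
      rw [hm]
      refine Nat.dvd_antisymm ((h2.symm.pow_left m).dvd_of_dvd_mul_left (e2 ▸ dvd_mul_right _ _)) ?_
      exact ((((Nat.prime_two.coprime_iff_not_dvd).2 T.not_dvd_index)).pow_left k).dvd_of_dvd_mul_right
        (e2.symm ▸ dvd_mul_left _ _)
    refine isComplement'_of_coprime ?_ ?_
    · rw [hTc, ← hk, card_mul_index]
    · rw [hTc]
      exact h2.pow_right k
  · haveI := hN
    haveI : Group.IsSolvable N := hFT _ hodd
    haveI : Group.IsNilpotent (↥(fixingSubgroup' (S : Subgroup G)) ⧸ N) :=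
      (IsPGroup.of_card (n := k) (by rw [← index_eq_card, hk])).isNilpotent
    exact Group.isSolvable_of_ker_le_range N.subtype (QuotientGroup.mk' N)
      (by rw [QuotientGroup.ker_mk', range_subtype])

end Cfsg.Agent.FTDown
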