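import Cfsg.Agent.Lib.OddOrderGlue.Basic
import Cfsg.Agent.Lib.Components.LBalanceTwo
import Cfsg.Agent.Lib.Components.ZStarInst
import Cfsg.Agent.Lib.Components.InvolutionOnLayer
import Cfsg.Agent.Lib.Components.BProperty

/-!
Components of the centralizer of an involution when the `2`-layer is the layer, given the odd order
theorem.
-/

set_option autoImplicit false
set_option linter.style.haveILetI false

namespace Cfsg.Agent.FTDown

open Cfsg Subgroup Cfsg.Agent.Components
open scoped commutatorElement

universe u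

variable {G : Type u} [Group G] [Finite G]

theorem centralizer_zpowers (t : G) :
    Subgroup.centralizer (Subgroup.zpowers t : Set G) = Subgroup.centralizer ({t} : Set G) := by
  rw [Subgroup.zpowers_eq_closure, Subgroup.centralizer_closure]

/-- A component of the centralizer of an involution lies in the layer. -/
theorem component_centralizer_le_layer (hFT : OddOrderGlue.FeitThompson.{u})
    (hL2 : pLayer 2 G = layer G) {t : G} (ht : orderOf t = 2) {L : Subgroup G}
    (hLt : L ≤ Subgroup.centralizer ({t} : Set G))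
    (hL : IsComponent (L.subgroupOf (Subgroup.centralizer ({t} : Set G)))) : L ≤ layer G := by
  haveI : Fact (Nat.Prime 2) := ⟨Nat.prime_two⟩
  rw [← hL2]
  have hd : 2 ∣ Nat.card (L.subgroupOf (Subgroup.centralizer ({t} : Set G))) := by
    by_contra hd
    exact component_not_isSolvable hL (hFT _ (Nat.odd_iff.2 (by omega)))
  have h1 : (L.subgroupOf (Subgroup.centralizer ({t} : Set G))) ≤ pLayer 2 _ :=
    component_le_pLayer hL hd
  have h2 := map_pLayer_centralizer_le zStarProperty (Subgroup.zpowers t)
    (IsPGroup.of_card (p := 2) (n := 1) (by rw [Nat.card_zpowers, ht, pow_one]))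
  rw [centralizer_zpowers] at h2
  refine le_trans ?_ h2
  intro x hx
  exact ⟨⟨x, hLt hx⟩, h1 hx, rfl⟩

omit [Finite G] in
/-- A perfect subgroup on whose central quotient `t` acts trivially is centralized by `t`. -/
theorem commute_of_commutator_central {D : Subgroup G} (hD : ⁅D, D⁆ = D) {t : G}
    (h : ∀ x ∈ D, ∀ y ∈ D, Commute (x⁻¹ * (t * x * t⁻¹)) y)
    (hmem : ∀ x ∈ D, t * x * t⁻¹ ∈ D) : ∀ x ∈ D, t * x * t⁻¹ = x := by
  have hle : ⁅D, D⁆ ≤ D ⊓ Subgroup.centralizer ({t} : Set G) := by
    rw [Subgroup.commutator_le]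
    intro x hx y hy
    refine ⟨hD.le (Subgroup.commutator_mem_commutator hx hy), ?_⟩
    show ⁅x, y⁆ ∈ Subgroup.centralizer ({t} : Set G)
    rw [mem_centralizer_singleton_iff, eq_comm, ← mul_inv_eq_iff_eq_mul]
    show (MulAut.conj t) ⁅x, y⁆ = ⁅x, y⁆
    have e1 : MulAut.conj t x = x⁻¹ * (t * x * t⁻¹) * x := by
      rw [(h x hx x hx).eq]; simp [mul_assoc]
    have e2 : MulAut.conj t y = y⁻¹ * (t * y * t⁻¹) * y := by
      rw [(h y hy y hy).eq]; simp [mul_assoc]
    have hzy : (y⁻¹ * (t * y * t⁻¹)) ∈ D := mul_mem (inv_mem hy) (hmem y hy)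
    rw [map_commutatorElement, e1, e2]
    exact commutatorElement_mul_mul_eq (h x hx x hx) (h x hx y hy) (h y hy x hx) (h y hy y hy)
      (h x hx _ hzy)
  intro x hx
  have := hle (hD.ge hx)
  rw [← (mem_centralizer_singleton_iff.mp this.2), mul_inv_cancel_right]

/-- The statement of S1322, given the odd order theorem. -/
theorem component_centralizer_cases (hFT : OddOrderGlue.FeitThompson.{u})
    (hL2 : pLayer 2 G = layer G) (t : G) (ht : orderOf t = 2) (L : Subgroup G)
    (hLt : L ≤ Subgroup.centralizer ({t} : Set G))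
    (hL : IsComponent (L.subgroupOf (Subgroup.centralizer ({t} : Set G)))) :
    ∃ D : Subgroup G, IsComponent D ∧ (L = D ∨ (L < D ∧ D = ⁅D, Subgroup.zpowers t⁆) ∨
      (D.map (MulAut.conj t).toMonoidHom ≠ D ∧
        L = (layer ↥((D ⊔ D.map (MulAut.conj t).toMonoidHom) ⊓
            Subgroup.centralizer ({t} : Set G))).map
          ((D ⊔ D.map (MulAut.conj t).toMonoidHom) ⊓
            Subgroup.centralizer ({t} : Set G)).subtype)) := by
  classical
  have hLE := component_centralizer_le_layer hFT hL2 ht hLt hL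
  have htt : t * t = 1 := by rw [← pow_two, ← ht, pow_orderOf_eq_one]
  have hLQ := isQuasisimple_of_componentIn hLt hL
  have hLperf : ⁅L, L⁆ = L := Subgroup.isPerfect_iff.mp hLQ.1
  have hLab : ¬ IsMulCommutative L := not_isMulCommutative_of_isQuasisimple hLQ
  obtain ⟨D, hD, hcase⟩ := exists_component_of_componentIn htt hLt hL hLE
  refine ⟨D, hD, ?_⟩
  set C := Subgroup.centralizer ({t} : Set G) with hC
  set Dt := D.map (MulAut.conj t).toMonoidHom with hDt
  by_cases hfix : Dt = D
  · -- `t` normalizes `D`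
    have hLD : L ≤ D := by
      rcases hcase with h | ⟨h, -⟩
      · exact h
      · exact absurd hfix h
    rcases eq_or_lt_of_le hLD with h | hlt
    · exact Or.inl h
    refine Or.inr (Or.inl ⟨hlt, ?_⟩)
    have htD : ∀ x ∈ D, t * x * t⁻¹ ∈ D := fun x hx => hfix.le ⟨x, hx, rfl⟩
    have hmul : ∀ x ∈ D, ∀ n : ℤ, ⁅x, t ^ n⁆ ∈ D := by
      intro x hx n
      have hn : t ^ n * x⁻¹ * (t ^ n)⁻¹ ∈ D := by
        have hN : t ^ n ∈ Subgroup.normalizer (D : Set G) :=
          zpow_mem (map_conj_eq_iff_mem_normalizer.mp hfix) n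
        exact (mem_normalizer_iff.mp hN _).mp (inv_mem hx)
      simpa [commutatorElement_def, mul_assoc] using mul_mem hx hn
    have hle : ⁅D, Subgroup.zpowers t⁆ ≤ D := by
      rw [Subgroup.commutator_le]
      intro x hx y hy
      obtain ⟨n, rfl⟩ := Subgroup.mem_zpowers_iff.mp hy
      exact hmul x hx n
    haveI : (⁅D, Subgroup.zpowers t⁆.subgroupOf D).Normal := by
      refine (normal_subgroupOf_iff_le_normalizer hle).mpr ?_
      exact Coprime.le_normalizer_commutator_left (Subgroup.zpowers t) D
    rcases normal_eq_top_or_le_center hD.2 (⁅D, Subgroup.zpowers t⁆.subgroupOf D) with h | h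
    · exact (le_antisymm hle (Subgroup.subgroupOf_eq_top.mp h)).symm
    · exfalso
      have hcent : ∀ x ∈ D, ∀ y ∈ D, Commute (x⁻¹ * (t * x * t⁻¹)) y := by
        intro x hx y hy
        have hz : ⁅x⁻¹, t⁆ ∈ ⁅D, Subgroup.zpowers t⁆ :=
          Subgroup.commutator_mem_commutator (inv_mem hx) (Subgroup.mem_zpowers t)
        have hz2 := Subgroup.mem_center_iff.mp
          (h (show (⟨_, hle hz⟩ : D) ∈ ⁅D, Subgroup.zpowers t⁆.subgroupOf D from hz)) ⟨y, hy⟩
        have e : ⁅x⁻¹, t⁆ = x⁻¹ * (t * x * t⁻¹) := by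
          simp [commutatorElement_def, mul_assoc]
        have hz3 : y * ⁅x⁻¹, t⁆ = ⁅x⁻¹, t⁆ * y := congrArg Subtype.val hz2
        rw [e] at hz3
        exact hz3.symm
      have hDC : D ≤ C := fun x hx => mem_centralizer_singleton_iff.mpr
        ((mul_inv_eq_iff_eq_mul.mp
          (commute_of_commutator_central (component_commutator_eq_self hD) hcent htD x hx)).symm)
      have hDcomp : IsComponent (D.subgroupOf C) := component_subgroupOf hD hDC
      have := component_eq_of_le hL hDcomp (fun x hx => hLD hx)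
      exact hlt.ne (le_antisymm hLD fun x hx =>
        (show (⟨x, hDC hx⟩ : C) ∈ L.subgroupOf C from this.ge hx))
  · -- `t` moves `D`
    refine Or.inr (Or.inr ⟨hfix, ?_⟩)
    have hDtc : IsComponent Dt := component_map_conj t hD
    have hcom : ∀ x ∈ D, ∀ y ∈ Dt, Commute x y := fun x hx y hy =>
      (mem_centralizer_iff.mp (component_le_centralizer hD hDtc (Ne.symm hfix) hx) y hy).symm
    have hdiag : ∀ k ∈ L, ∃ x ∈ D, ∃ y ∈ Dt, k = x * y := by
      intro k hk
      rcases hcase with h | ⟨-, h⟩
      · exact ⟨k, h hk, 1, one_mem _, (mul_one k).symm⟩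
      · obtain ⟨l, hl, rfl⟩ := h k hk
        exact ⟨l, hl, _, ⟨l, hl, rfl⟩, rfl⟩
    have hLW : L ≤ (D ⊔ Dt) ⊓ C := fun k hk => ⟨by
      obtain ⟨x, hx, y, hy, rfl⟩ := hdiag k hk
      exact Subgroup.mul_mem_sup hx hy, hLt hk⟩
    set W := (D ⊔ Dt) ⊓ C with hW
    have hLc : IsComponent (L.subgroupOf W) :=
      (componentIn_subgroupOf_iff (show W ≤ C from inf_le_right)).mp
        (component_subgroupOf hL (show L.subgroupOf C ≤ W.subgroupOf C from fun x hx => hLW hx))
    have key : ∀ K : Subgroup W, IsComponent K → K = L.subgroupOf W := by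
      intro K hK
      by_contra hne
      -- `K` centralizes `L`
      have hKL : ∀ k ∈ K, ∀ l ∈ L, Commute (k : G) l := fun k hk l hl => by
        have := mem_centralizer_iff.mp (component_le_centralizer hK hLc hne hk) ⟨l, hLW hl⟩ hl
        exact (congrArg Subtype.val this).symm
      -- the projection to `D / Z(D)`
      have hinter : ∀ (z : G) (hz : z ∈ D), z ∈ Dt → (⟨z, hz⟩ : D) ∈ Subgroup.center D := by
        intro z hz hz'
        exact Subgroup.mem_center_iff.mpr fun y => Subtype.ext (hcom y y.2 z hz').eq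
      have hWdec : ∀ w : W, ∃ x : D, ∃ y ∈ Dt, (w : G) = x * y := by
        intro w
        have hw : (w : G) ∈ ((D ⊔ Dt : Subgroup G) : Set G) := w.2.1
        rw [Subgroup.coe_mul_of_right_le_normalizer_left D Dt
          ((component_le_centralizer hDtc hD hfix).trans (Subgroup.centralizer_le_normalizer _))] at hw
        obtain ⟨x, hx, y, hy, h⟩ := hw
        exact ⟨⟨x, hx⟩, y, hy, h.symm⟩
      choose f g hg hfg using hWdec
      let π : W →* D ⧸ Subgroup.center D := MonoidHom.mk' (fun w => QuotientGroup.mk (f w)) (by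
        intro v w
        rw [← QuotientGroup.mk_mul, QuotientGroup.eq]
        have h1 : ((f v * f w : D) : G) * (g v * g w) = (f (v * w) : G) * g (v * w) := by
          rw [← hfg, Subgroup.coe_mul, Subgroup.coe_mul, hfg v, hfg w]
          calc (f v : G) * (f w : G) * (g v * g w) = f v * ((f w : G) * g v) * g w := by group
            _ = f v * (g v * f w) * g w := by rw [(hcom _ (f w).2 _ (hg v)).eq]
            _ = f v * g v * ((f w : G) * g w) := by group
        have h2 : ((f (v * w))⁻¹ * (f v * f w) : D).1 = g (v * w) * (g v * g w)⁻¹ := by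
          rw [Subgroup.coe_mul, Subgroup.coe_inv, eq_mul_inv_iff_mul_eq, mul_assoc, h1,
            inv_mul_cancel_left]
        exact hinter _ _ (by simp only [Subgroup.coe_mul, Subgroup.coe_inv] at h2 ⊢; rw [h2]; exact mul_mem (hg _) (inv_mem (mul_mem (hg v) (hg w)))))
      have hπ : ∀ (w : W) (x : D) (y : G), y ∈ Dt → (w : G) = x * y → π w = QuotientGroup.mk x := by
        intro w x y hy hw
        refine QuotientGroup.eq.mpr ?_
        have h1 : (f w : G) * g w = x * y := by rw [← hfg, hw]
        have h2 : ((f w)⁻¹ * x : D).1 = g w * y⁻¹ := by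
          rw [Subgroup.coe_mul, Subgroup.coe_inv, eq_mul_inv_iff_mul_eq, mul_assoc, ← h1,
            inv_mul_cancel_left]
        exact hinter _ _ (by simp only [Subgroup.coe_mul, Subgroup.coe_inv] at h2 ⊢; rw [h2]; exact mul_mem (hg _) (inv_mem hy))
      have hπs : Function.Surjective π := by
        intro q
        obtain ⟨x, rfl⟩ := QuotientGroup.mk_surjective q
        have hy : t * x * t⁻¹ ∈ Dt := ⟨x, x.2, rfl⟩
        refine ⟨⟨x * (t * x * t⁻¹), Subgroup.mul_mem_sup x.2 hy,
          mem_centralizer_singleton_iff.mpr ?_⟩, hπ _ x _ hy rfl⟩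
        have hi : t⁻¹ = t := inv_eq_of_mul_eq_one_right htt
        calc (x : G) * (t * x * t⁻¹) * t = (x : G) * (t * x) := by group
          _ = t * ((t * x * t) * x) := by
              rw [show t * (t * (x : G) * t * x) = (t * t) * (x * t * x) by group, htt, one_mul]
              group
          _ = t * ((x : G) * (t * x * t)) := by
              rw [show t * (x : G) * t = t * x * t⁻¹ by rw [hi], (hcom x x.2 _ hy).eq]
          _ = t * ((x : G) * (t * x * t⁻¹)) := by rw [hi]
      -- the image of `L` is everything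
      have himgL : (L.subgroupOf W).map π = ⊤ := by
        have hs : IsSimpleGroup (D ⧸ Subgroup.center D) := hD.2.2
        haveI : Finite W := inferInstance
        have hsn : ((L.subgroupOf W).map π).IsSubnormal := hLc.1.map hπs
        rcases Subgroup.IsSubnormal.eq_bot_or_top_of_isSimpleGroup hs hsn with h | h
        · exfalso
          refine hLab ⟨⟨fun a b => Subtype.ext ?_⟩⟩
          have hz : ∀ k : L, ∃ x ∈ D, ∃ y ∈ Dt, (k : G) = x * y ∧ ∀ d ∈ D, Commute x d := by
            intro k
            obtain ⟨x, hx, y, hy, e⟩ := hdiag k k.2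
            refine ⟨x, hx, y, hy, e, fun d hd => ?_⟩
            have h1 : π ⟨k, hLW k.2⟩ = 1 := (Subgroup.eq_bot_iff_forall _).mp h _ ⟨_, k.2, rfl⟩
            rw [hπ _ ⟨x, hx⟩ y hy e, QuotientGroup.eq_one_iff] at h1
            exact (congrArg Subtype.val (Subgroup.mem_center_iff.mp h1 ⟨d, hd⟩)).symm
          have hy' : ∀ k : L, ∃ x ∈ D, ∃ y ∈ Dt, (k : G) = x * y ∧ (∀ d ∈ D, Commute x d) ∧
              ∀ d ∈ Dt, Commute y d := by
            intro k
            obtain ⟨x, hx, y, hy, e, hxc⟩ := hz k
            refine ⟨x, hx, y, hy, e, hxc, fun d hd => ?_⟩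
            obtain ⟨d, hd', rfl⟩ := hd
            have h1 : t * k * t⁻¹ = k := by
              rw [(mem_centralizer_singleton_iff.mp (hLt k.2)).symm, mul_inv_cancel_right]
            obtain ⟨u, hu, hu'⟩ := hy
            have e2 : (k : G) = u * (t * x * t⁻¹) := by
              have hu2 : y = t * u * t⁻¹ := hu'.symm
              have hi : t⁻¹ = t := inv_eq_of_mul_eq_one_right htt
              calc (k : G) = t * k * t⁻¹ := h1.symm
                _ = t * x * t⁻¹ * (t * t * u * t⁻¹ * t⁻¹) := by rw [e, hu2]; group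
                _ = t * x * t⁻¹ * u := by rw [htt, hi, one_mul, mul_assoc u t t, htt, mul_one]
                _ = u * (t * x * t⁻¹) := (hcom u hu _ ⟨x, hx, rfl⟩).eq.symm
            have h2 : π ⟨k, hLW k.2⟩ = 1 := (Subgroup.eq_bot_iff_forall _).mp h _ ⟨_, k.2, rfl⟩
            rw [hπ _ ⟨u, hu⟩ _ ⟨x, hx, rfl⟩ e2, QuotientGroup.eq_one_iff] at h2
            have h3 : Commute u d :=
              (congrArg Subtype.val (Subgroup.mem_center_iff.mp h2 ⟨d, hd'⟩)).symm
            rw [← hu']
            exact h3.map (MulAut.conj t)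
          obtain ⟨x, hx, y, hy, e, hxc, hyc⟩ := hy' a
          obtain ⟨x', hx', y', hy'', e', -, -⟩ := hy' b
          show (a : G) * b = b * a
          rw [e, e']
          exact (((hxc x' hx').mul_right (hcom x hx y' hy'')).mul_left
            ((hcom x' hx' y hy).symm.mul_right (hyc y' hy''))).eq
        · exact h
      -- hence the image of `K` is trivial
      have hKtriv : ∀ k ∈ K, π k = 1 := by
        intro k hk
        have hc : π k ∈ Subgroup.center (D ⧸ Subgroup.center D) := by
          refine Subgroup.mem_center_iff.mpr fun q => ?_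
          obtain ⟨l, hl, rfl⟩ := himgL.ge (Subgroup.mem_top q)
          rw [← map_mul, ← map_mul]
          exact congrArg π (Subtype.ext (hKL k hk l hl).eq.symm)
        haveI : IsSimpleGroup (D ⧸ Subgroup.center D) := hD.2.2
        rcases (inferInstance : (Subgroup.center (D ⧸ Subgroup.center D)).Normal).eq_bot_or_eq_top
          with h | h
        · rwa [h, Subgroup.mem_bot] at hc
        · exfalso
          refine not_isMulCommutative_of_isQuasisimple hD.2 ⟨⟨fun u v => ?_⟩⟩
          have hperf : ⁅(⊤ : Subgroup D), ⊤⁆ = ⊤ := hD.2.1.commutator_eq_top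
          have hDD : commutator D ≤ Subgroup.center D := by
            rw [_root_.commutator_def, Subgroup.commutator_le]
            intro p _ q _
            rw [← QuotientGroup.eq_one_iff, ← QuotientGroup.mk'_apply, map_commutatorElement,
              commutatorElement_eq_one_iff_mul_comm]
            exact (Subgroup.mem_center_iff.mp (h.ge (Subgroup.mem_top _)) _)
          have := hDD (hperf.ge (Subgroup.mem_top u))
          exact (Subgroup.mem_center_iff.mp this v).symm
      -- so `K` is abelian
      refine not_isMulCommutative_of_isQuasisimple hK.2 ⟨⟨fun a b => Subtype.ext (Subtype.ext ?_)⟩⟩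
      have hwc : ∀ w : W, π w = 1 → ∀ d ∈ D, Commute (f w : G) d := fun w hw d hd => by
        have h1 : QuotientGroup.mk (f w) = (1 : D ⧸ Subgroup.center D) := hw
        rw [QuotientGroup.eq_one_iff] at h1
        exact (congrArg Subtype.val (Subgroup.mem_center_iff.mp h1 ⟨d, hd⟩)).symm
      have hwc' : ∀ w : W, π w = 1 → ∀ d ∈ Dt, Commute (g w) d := by
        intro w hw d hd
        obtain ⟨d, hd', rfl⟩ := hd
        obtain ⟨u, hu, hu'⟩ := hg w
        have hi : t⁻¹ = t := inv_eq_of_mul_eq_one_right htt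
        have h1 : t * (w : G) * t⁻¹ = w := by
          rw [(mem_centralizer_singleton_iff.mp w.2.2).symm, mul_inv_cancel_right]
        have hu2 : g w = t * u * t⁻¹ := hu'.symm
        have e2 : (w : G) = u * (t * f w * t⁻¹) := by
          calc (w : G) = t * w * t⁻¹ := h1.symm
            _ = t * f w * t⁻¹ * (t * t * u * t⁻¹ * t⁻¹) := by rw [hfg w, hu2]; group
            _ = t * f w * t⁻¹ * u := by rw [htt, hi, one_mul, mul_assoc u t t, htt, mul_one]
            _ = u * (t * f w * t⁻¹) := (hcom u hu _ ⟨f w, (f w).2, rfl⟩).eq.symm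
        rw [hπ _ ⟨u, hu⟩ _ ⟨f w, (f w).2, rfl⟩ e2, QuotientGroup.eq_one_iff] at hw
        have h3 : Commute u d := (congrArg Subtype.val (Subgroup.mem_center_iff.mp hw ⟨d, hd'⟩)).symm
        rw [← hu']
        exact h3.map (MulAut.conj t)
      show ((a : W) : G) * ((b : W) : G) = ((b : W) : G) * ((a : W) : G)
      rw [hfg a, hfg b]
      exact (((hwc _ (hKtriv _ a.2) _ (f _).2).mul_right (hcom _ (f _).2 _ (hg _))).mul_left
        ((hcom _ (f _).2 _ (hg _)).symm.mul_right (hwc' _ (hKtriv _ a.2) _ (hg _)))).eq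
    have hlay : layer W = L.subgroupOf W :=
      le_antisymm (layer_le_iff.mpr fun K hK => (key K hK).le) (component_le_layer hLc)
    rw [hlay, Subgroup.subgroupOf_map_subtype, inf_eq_left.mpr hLW]

end Cfsg.Agent.FTDown
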