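import Cfsg.Prelude.Def_ClassificationStages
import Cfsg.Agent.FT.Pair
import Cfsg.Agent.FG78.Basic
import Cfsg.Agent.Lib.OddOrderGlue.Basic

/-!
The last steps of the odd order theorem: a pair of maximal subgroups of type `P` gives the
two-prime parabolic configuration, so the configuration theorems imply that every group of odd
order is solvable.
-/

set_option autoImplicit false
set_option linter.style.haveILetI false

namespace Cfsg.Agent.FTDown

open Cfsg
open Cfsg.Agent.OddOrderGlue (FeitThompson NoMinSimpleOdd)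

universe u

/-- Some maximal subgroup has `κ ≠ ∅`. -/
def SomeKappa : Prop :=
  ∀ (G : Type u) [Group G] [Finite G], IsMinSimpleOddOrder G →
    ∃ M : Subgroup G, IsCoatom M ∧ (kappa M).Nonempty

/-- The statement S1541. -/
def NotAllTypeOne : Prop :=
  ∀ (G : Type u) [Group G] [Finite G], IsMinSimpleOddOrder G →
    ∃ M : Subgroup G, IsCoatom M ∧ ¬ IsOfTypeI M

/-- The criterion S1380 for the type I, for all minimal simple groups of odd order. -/
def TypeOneCriterion : Prop :=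
  ∀ (G : Type u) [Group G] [Finite G], IsMinSimpleOddOrder G → BGSummary.TypeICriterion G

/-- The statement S1544. -/
def FinalConfiguration : Prop :=
  ∀ (G : Type u) [Group G] [Finite G], IsMinSimpleOddOrder G →
    ∀ S T W₁ W₂ U V : Subgroup G, IsCoatom S → IsCoatom T → IsTypePWith S W₁ U W₂ →
    IsTypePWith T W₂ V W₁ → S ⊓ T = W₁ ⊔ W₂ → (IsOfTypeII S ∨ IsOfTypeII T) →
    (IsOfTypeII S ∨ IsOfTypeIII S ∨ IsOfTypeIV S ∨ IsOfTypeV S) →
    (IsOfTypeII T ∨ IsOfTypeIII T ∨ IsOfTypeIV T ∨ IsOfTypeV T) →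
    Nat.card W₁ < Nat.card W₂ →
    (Nat.card W₁).Prime ∧ (Nat.card W₂).Prime ∧
      IsElementaryAbelian (Nat.card W₂) (fittingHallOf S) ∧
      Nat.card (fittingHallOf S) = Nat.card W₂ ^ Nat.card W₁ ∧ IsCyclic U ∧
      Nat.card U * (Nat.card W₂ - 1) = Nat.card W₂ ^ Nat.card W₁ - 1 ∧
      (∀ u ∈ U, u ≠ 1 → ∀ x ∈ fittingHallOf S, u * x = x * u → x = 1) ∧
      Nat.Coprime ((Nat.card W₂ ^ Nat.card W₁ - 1) / (Nat.card W₂ - 1)) (Nat.card W₂ - 1) ∧
      U ≤ Subgroup.normalizer (fittingHallOf S : Set G) ∧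
      (Nat.card (fittingHallOf T)).Coprime (Nat.card W₂) ∧
      IsElementaryAbelian (Nat.card W₁) (fittingHallOf T) ∧
      W₂ ≤ Subgroup.normalizer (fittingHallOf T : Set G) ∧
      ∃ y ∈ fittingHallOf T, W₂.map (MulAut.conj y).toMonoidHom ≤ Subgroup.normalizer (U : Set G) ∧
        ∃ (F : Type) (_ : Field F) (_ : Fintype F) (f : G → F) (ψ : G → F),
          Fintype.card F = Nat.card W₂ ^ Nat.card W₁ ∧
          Set.BijOn f (fittingHallOf S : Set G) Set.univ ∧
          (∀ x ∈ fittingHallOf S, ∀ x' ∈ fittingHallOf S, f (x * x') = f x + f x') ∧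
          (∀ u ∈ U, ψ u ≠ 0 ∧ ∀ x ∈ fittingHallOf S, f (u * x * u⁻¹) = ψ u * f x) ∧
          (∀ u ∈ U, ∀ u' ∈ U, ψ (u * u') = ψ u * ψ u') ∧ Set.InjOn ψ (U : Set G) ∧
          (∀ x ∈ fittingHallOf S, x ∈ W₂ ↔ f x ^ Nat.card W₂ = f x)

/-- The statement S2016. -/
def NotParabolic : Prop :=
  ∀ (G : Type u) [Group G] [Finite G], IsMinSimpleOddOrder G →
    ∀ p q : ℕ, ¬ IsParabolicType p q G

theorem someKappa_of_notAllTypeOne (hI : TypeOneCriterion.{u}) (h : NotAllTypeOne.{u}) :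
    SomeKappa.{u} := by
  intro G _ _ hG
  obtain ⟨M, hM, hMI⟩ := h G hG
  obtain ⟨K, U, hKU⟩ := FT.exists_decomp hG hM
  refine ⟨M, hM, Set.nonempty_iff_ne_empty.mpr fun he => hMI ?_⟩
  exact (BGSummary.typeI_iff (FT.summary hG) hG (hI G hG) hM hKU).mpr
    ((BGSummary.eq_bot_iff_kappa hKU.hall).mpr he)

/-- A pair with `|W₁| < |W₂|` gives the two-prime parabolic configuration. -/
theorem parabolic_of_pair (hfc : FinalConfiguration.{u}) {G : Type u} [Group G] [Finite G]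
    (hG : IsMinSimpleOddOrder G) {S T W₁ W₂ U V : Subgroup G} (d : FT.Pair S T W₁ W₂ U V)
    (hlt : Nat.card W₁ < Nat.card W₂) :
    IsParabolicType (Nat.card W₂) (Nat.card W₁) G := by
  obtain ⟨hq, hp, hP, hPcard, hUc, hUcard, hfpf, hcop, hUN, -, hQ, hW₂N, y, hy, hyN, -⟩ :=
    hfc G hG S T W₁ W₂ U V d.coatomS d.coatomT d.typeS d.typeT d.inf_eq d.someII d.casesS
      d.casesT hlt
  have hne2 : ∀ K : Subgroup G, Nat.card K ≠ 2 := fun K h2 =>
    absurd (hG.1.of_dvd_nat (Subgroup.card_subgroup_dvd_card K)) (by rw [h2]; decide)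
  have hpow : Nat.card W₂ < Nat.card W₂ ^ Nat.card W₁ := by
    calc Nat.card W₂ = Nat.card W₂ ^ 1 := (pow_one _).symm
      _ < Nat.card W₂ ^ Nat.card W₁ := Nat.pow_lt_pow_right hp.one_lt hq.one_lt
  have hU1 : U ≠ ⊥ := by
    rintro rfl
    rw [Subgroup.card_bot, one_mul] at hUcard
    omega
  have hP1 : fittingHallOf S ≠ ⊥ := by
    intro h
    rw [h, Subgroup.card_bot] at hPcard
    have := hp.one_lt
    omega
  have hdisj : fittingHallOf S ⊓ U = ⊥ := by
    rw [eq_bot_iff]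
    intro x hx
    obtain ⟨hxP, hxU⟩ := Subgroup.mem_inf.mp hx
    by_contra hx1
    exact hx1 (Subgroup.mem_bot.mpr (hfpf x hxU (fun h => hx1 (Subgroup.mem_bot.mpr h)) x hxP rfl))
  have hAH : U ≤ fittingHallOf S ⊔ U := le_sup_right
  have hPH : fittingHallOf S ≤ fittingHallOf S ⊔ U := le_sup_left
  haveI : ((fittingHallOf S).subgroupOf (fittingHallOf S ⊔ U)).Normal :=
    (Subgroup.normal_subgroupOf_iff_le_normalizer hPH).mpr (sup_le Subgroup.le_normalizer hUN)
  have hfr := FG78.frobenius_of_fpf ((fittingHallOf S).subgroupOf (fittingHallOf S ⊔ U))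
    (U.subgroupOf (fittingHallOf S ⊔ U))
    (fun h => hP1 (by
      have := Subgroup.subgroupOf_eq_bot.mp h
      rwa [disjoint_iff, inf_eq_left.mpr hPH] at this))
    (fun h => hU1 (by
      have := Subgroup.subgroupOf_eq_bot.mp h
      rwa [disjoint_iff, inf_eq_left.mpr hAH] at this))
    (by
      rw [eq_bot_iff]
      intro x hx
      obtain ⟨hxP, hxU⟩ := Subgroup.mem_inf.mp hx
      have : (x : G) ∈ (⊥ : Subgroup G) := hdisj ▸ Subgroup.mem_inf.mpr ⟨hxP, hxU⟩
      exact Subgroup.mem_bot.mpr (Subtype.ext (Subgroup.mem_bot.mp this)))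
    (by rw [← Subgroup.subgroupOf_sup hPH hAH, Subgroup.subgroupOf_self])
    (fun h hh h1 n hn hc => Subtype.ext (hfpf _ (Subgroup.mem_subgroupOf.mp hh)
      (fun e => h1 (Subtype.ext e)) _ (Subgroup.mem_subgroupOf.mp hn)
      (congrArg Subtype.val hc.eq)))
  refine ⟨hp, hq, hne2 W₂, hne2 W₁, hlt, hcop, fittingHallOf S ⊔ U, U, fittingHallOf S, hAH, hPH,
    sup_comm _ _, hfr.1, hfr.2, hP, hPcard, hUc, ?_, W₂, d.typeS.W₂_le.trans inf_le_left, rfl,
    fittingHallOf T, hQ.1, fun z => ⟨1, ?_⟩,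
    fun a ha z hz => (Subgroup.mem_normalizer_iff.mp (hW₂N ha) z).mp hz, y, hy, hyN⟩
  · rw [← hUcard, Nat.mul_div_cancel _ (by have := hp.one_lt; omega)]
  · rw [pow_one]
    exact Subtype.ext (hQ.2 z z.2)

theorem noMinSimpleOdd_of_kappa (hk : SomeKappa.{u}) (hfc : FinalConfiguration.{u})
    (hnp : NotParabolic.{u}) : NoMinSimpleOdd.{u} := by
  intro G _ _ hG
  obtain ⟨S, T, W₁, W₂, U, V, d⟩ := FT.exists_pair hG (hk G hG)
  rcases lt_trichotomy (Nat.card W₁) (Nat.card W₂) with h | h | h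
  · exact hnp G hG _ _ (parabolic_of_pair hfc hG d h)
  · have hc := d.coprime hG
    rw [h, Nat.coprime_self] at hc
    rw [hc] at h
    exact d.typeS.W₁_ne (Subgroup.eq_bot_of_card_eq W₁ h)
  · exact hnp G hG _ _ (parabolic_of_pair hfc hG d.symm h)

theorem feitThompson_of_kappa (hk : SomeKappa.{u}) (hfc : FinalConfiguration.{u})
    (hnp : NotParabolic.{u}) : FeitThompson.{u} :=
  OddOrderGlue.feitThompson_of_noMinSimple (noMinSimpleOdd_of_kappa hk hfc hnp)

/-- The odd order theorem from the statements S1380, S1541, S1544 and S2016. -/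
theorem feitThompson_of_configurations (hI : TypeOneCriterion.{u}) (h1 : NotAllTypeOne.{u})
    (hfc : FinalConfiguration.{u}) (hnp : NotParabolic.{u}) : FeitThompson.{u} :=
  feitThompson_of_kappa (someKappa_of_notAllTypeOne hI h1) hfc hnp

end Cfsg.Agent.FTDown
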