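import Cfsg.Agent.Lib.OddOrderGlue.Basic
import Cfsg.Agent.Lib.Coprime.Hom
import Cfsg.Agent.Lib.PComplement.GlaubermanThompson
import Cfsg.Agent.Lib.Frobenius.Thompson

/-!
Coprime action with all invariant proper subgroups nilpotent, given the odd order theorem.
-/

set_option autoImplicit false
set_option linter.style.haveILetI false

namespace Cfsg.Agent.FTDown

open Cfsg Subgroup
open scoped commutatorElement

universe u v

variable {A : Type v} [Group A] [Finite A]

/-- A subgroup stable under the action. -/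
def Inv {K : Type u} [Group K] (φ : A →* MulAut K) (H : Subgroup K) : Prop := ∀ a, ∀ x ∈ H, φ a x ∈ H

theorem Inv.map_eq {K : Type u} [Group K] [Finite K] {φ : A →* MulAut K} {H : Subgroup K}
    (h : Inv φ H) (a : A) : H.map (φ a).toMonoidHom = H :=
  eq_of_le_of_card_ge (map_le_iff_le_comap.2 fun x hx => h a x hx)
    (card_map_of_injective (φ a).injective).ge

theorem inv_normalizer {K : Type u} [Group K] [Finite K] {φ : A →* MulAut K} {H : Subgroup K}
    (h : Inv φ H) : Inv φ (normalizer (H : Set K)) := by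
  intro a x hx
  refine mem_normalizer_iff.2 fun y => ?_
  obtain ⟨z, rfl⟩ := (φ a).surjective y
  have hz : ∀ w, φ a w ∈ H ↔ w ∈ H := fun w => by
    conv_lhs => rw [← h.map_eq a]
    exact mem_map_iff_mem (φ a).injective
  rw [← map_inv, ← map_mul, ← map_mul, hz, hz]
  exact mem_normalizer_iff.1 hx z

theorem solvable_or (hFTA : OddOrderGlue.FeitThompson.{v}) (hFTK : OddOrderGlue.FeitThompson.{u})
    {K : Type u} [Group K] [Finite K] (hcop : (Nat.card A).Coprime (Nat.card K)) :
    Group.IsSolvable A ∨ Group.IsSolvable K := by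
  rcases Nat.even_or_odd (Nat.card K) with hK | hK
  · refine Or.inl (hFTA A (Nat.coprime_two_right.1 (hcop.coprime_dvd_right ?_)))
    exact hK.two_dvd
  · exact Or.inr (hFTK K hK)

theorem isSolvable_aux (hFTA : OddOrderGlue.FeitThompson.{v})
    (hFTK : OddOrderGlue.FeitThompson.{u}) : ∀ (n : ℕ) (K : Type u) [Group K] [Finite K]
    (φ : A →* MulAut K), Nat.card K = n → (Nat.card A).Coprime (Nat.card K) →
    (∀ H : Subgroup K, H ≠ ⊤ → Inv φ H → Group.IsNilpotent H) → Group.IsSolvable K := by
  intro n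
  induction n using Nat.strong_induction_on with
  | _ n ih =>
    intro K _ _ φ hn hcop hyp
    by_cases hodd : ∃ r : ℕ, r.Prime ∧ r ≠ 2 ∧ r ∣ Nat.card K
    swap
    · haveI : Fact (Nat.Prime 2) := ⟨Nat.prime_two⟩
      haveI : Group.IsNilpotent K :=
        (IsPGroup.iff_card.2 ⟨_, Nat.eq_prime_pow_of_unique_prime_dvd Nat.card_pos.ne'
          fun {q} hq hqd => by_contra fun hne => hodd ⟨q, hq, hne, hqd⟩⟩ : IsPGroup 2 K).isNilpotent
      infer_instance
    obtain ⟨r, hr, hr2, hrd⟩ := hodd
    haveI := Fact.mk hr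
    obtain ⟨R, hR⟩ := Coprime.exists_invariant_sylow_hom φ hcop (solvable_or hFTA hFTK hcop) r
    have hRne : (R : Subgroup K) ≠ ⊥ := fun h => by
      have := R.dvd_card_of_dvd_card hrd
      rw [h, card_bot] at this
      exact hr.not_dvd_one this
    obtain ⟨Z, hZdef⟩ : ∃ Z, Z = centerThompsonOf r (R : Subgroup K) := ⟨_, rfl⟩
    have hZR : Z ≤ R := fun x hx => Thompson.thompsonSubgroupOf_le _ (hZdef ▸ hx).1
    have hZne : Z ≠ ⊥ := hZdef ▸ PComplement.centerThompsonOf_ne_bot R.2 hRne
    have hZinv : Inv φ Z := by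
      intro a x hx
      have h := PComplement.centerThompsonOf_map (p := r) (φ a).toMonoidHom (R : Subgroup K)
        (fun _ _ _ _ h => (φ a).injective h)
      rw [(show Inv φ (R : Subgroup K) from hR).map_eq a, ← hZdef] at h
      exact h.le ⟨x, hx, rfl⟩
    by_cases hN : normalizer (Z : Set K) = ⊤
    · haveI : Z.Normal := normalizer_eq_top_iff.1 hN
      haveI : Group.IsNilpotent Z := (R.2.to_le hZR).isNilpotent
      let ψ : A →* MulAut (K ⧸ Z) := MonoidHom.mk'
        (fun a => QuotientGroup.congr Z Z (φ a) (hZinv.map_eq a))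
        fun a b => MulEquiv.ext fun x => by
          obtain ⟨y, rfl⟩ := QuotientGroup.mk'_surjective Z x
          show QuotientGroup.mk' Z (φ (a * b) y) = QuotientGroup.mk' Z (φ a (φ b y))
          rw [map_mul, MulAut.mul_apply]
      haveI : Group.IsSolvable (K ⧸ Z) := by
        refine ih _ ?_ (K ⧸ Z) ψ rfl (hcop.coprime_dvd_right (card_quotient_dvd_card Z)) ?_
        · rw [← hn, card_eq_card_quotient_mul_card_subgroup Z]
          exact lt_mul_right Nat.card_pos ((one_lt_card_iff_ne_bot Z).2 hZne)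
        · intro H hH hinv
          haveI := hyp (H.comap (QuotientGroup.mk' Z))
            (fun h => hH (by
              rw [← map_comap_eq_self_of_surjective (QuotientGroup.mk'_surjective Z) H, h,
                map_top_of_surjective _ (QuotientGroup.mk'_surjective Z)]))
            fun a x hx => hinv a _ hx
          let f := (QuotientGroup.mk' Z).subgroupComap H
          exact Group.nilpotent_of_surjective f
            (MonoidHom.subgroupComap_surjective_of_surjective _ _ (QuotientGroup.mk'_surjective Z))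
      exact Group.isSolvable_of_ker_le_range Z.subtype (QuotientGroup.mk' Z)
        (by rw [QuotientGroup.ker_mk', range_subtype])
    · have hnil := hyp _ hN (inv_normalizer hZinv)
      have hpc : HasNormalPComplement r (normalizer (Z : Set K)) :=
        Frobenius.hasNormalPComplement_of_isNilpotent hnil r
      obtain ⟨P', C, hC, hCP⟩ := PComplement.glauberman_thompson hr2 R (hZdef ▸ hpc)
      haveI := hC
      obtain ⟨m, hm⟩ := IsPGroup.iff_card.1 P'.2
      have hCr : (Nat.card C).Coprime r := by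
        rw [← hCP.index_eq_card]
        exact ((hr.coprime_iff_not_dvd).2 P'.not_dvd_index).symm
      have hCinv : Inv φ C := by
        intro a x hx
        rw [← QuotientGroup.eq_one_iff, ← orderOf_eq_one_iff]
        refine Nat.eq_one_of_dvd_coprimes (hCr.pow_right m) ?_ ?_
        · refine (orderOf_map_dvd (QuotientGroup.mk' C) (φ a x)).trans ?_
          rw [MulEquiv.orderOf_eq]
          exact orderOf_dvd_natCard _ hx
        · rw [← hm, ← hCP.symm.index_eq_card, index_eq_card]
          exact orderOf_dvd_natCard _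
      have hCtop : C ≠ ⊤ := fun h => by
        rw [h, card_top] at hCr
        exact hr.not_dvd_one ((hCr.coprime_dvd_left hrd).eq_one_of_dvd dvd_rfl ▸ dvd_rfl)
      haveI := hyp C hCtop hCinv
      haveI : Group.IsNilpotent (K ⧸ C) :=
        (IsPGroup.of_card (n := m) (by rw [← index_eq_card, hCP.symm.index_eq_card, hm])).isNilpotent
      exact Group.isSolvable_of_ker_le_range C.subtype (QuotientGroup.mk' C)
        (by rw [QuotientGroup.ker_mk', range_subtype])

/-- The structure part. -/
theorem structure_of_solvable (hFTA : OddOrderGlue.FeitThompson.{v})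
    (hFTK : OddOrderGlue.FeitThompson.{u}) {K : Type u} [Group K] [Finite K] (φ : A →* MulAut K)
    (hcop : (Nat.card A).Coprime (Nat.card K))
    (hyp : ∀ H : Subgroup K, H ≠ ⊤ → Inv φ H → Group.IsNilpotent H) (hK : ¬ Group.IsNilpotent K)
    [Group.IsSolvable K] :
    (∃ p q a b : ℕ, p.Prime ∧ q.Prime ∧ p ≠ q ∧ Nat.card K = p ^ a * q ^ b) ∧
      ∃ (p : ℕ) (P : Sylow p K), p.Prime ∧ p ∣ Nat.card K ∧ (P : Subgroup K).Normal ∧
        Inv φ (P : Subgroup K) := by
  haveI : Nontrivial K := by
    by_contra h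
    rw [not_nontrivial_iff_subsingleton] at h
    haveI := h
    exact hK inferInstance
  have hlt := Group.IsSolvable.commutator_lt_top_of_nontrivial K
  have hne : (commutator K).index ≠ 1 := fun h => hlt.ne (index_eq_one.1 h)
  obtain ⟨q, hq, hqd⟩ := Nat.exists_prime_and_dvd hne
  haveI := Fact.mk hq
  -- the invariant normal subgroup with `q`-quotient
  obtain ⟨β, m', hm', hidx⟩ := Nat.exists_eq_pow_mul_and_not_dvd
    (index_ne_zero_of_finite (H := commutator K)) q hq.ne_one
  have hcm : ∀ x y : K, ∃ c ∈ commutator K, x * y = c * (y * x) := fun x y =>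
    ⟨⁅x, y⁆, commutator_mem_commutator (mem_top x) (mem_top y), by simp [commutatorElement_def]⟩
  obtain ⟨M, hMdef⟩ : ∃ M : Subgroup K, ∀ x, x ∈ M ↔ x ^ m' ∈ commutator K := by
    refine ⟨{ carrier := {x | x ^ m' ∈ commutator K}, one_mem' := ?_, mul_mem' := ?_, inv_mem' := ?_ },
      fun x => Iff.rfl⟩
    · intro x y hx hy
      change x ^ m' ∈ commutator K at hx
      change y ^ m' ∈ commutator K at hy
      show (x * y) ^ m' ∈ commutator K
      rw [← QuotientGroup.eq_one_iff, ← QuotientGroup.mk'_apply, map_pow, map_mul,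
        (show Commute (QuotientGroup.mk' (commutator K) x) (QuotientGroup.mk' (commutator K) y) by
          obtain ⟨c, hc, h⟩ := hcm x y
          show _ = _
          rw [← map_mul, h, map_mul, map_mul, QuotientGroup.mk'_apply _ c,
            (QuotientGroup.eq_one_iff c).2 hc, one_mul]).mul_pow, ← map_pow, ← map_pow,
        QuotientGroup.mk'_apply, QuotientGroup.mk'_apply, (QuotientGroup.eq_one_iff _).2 hx,
        (QuotientGroup.eq_one_iff _).2 hy, one_mul]
    · simp
    · intro x hx
      show x⁻¹ ^ m' ∈ commutator K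
      rw [inv_pow]; exact inv_mem hx
  have hMinv : Inv φ M := fun a x hx => by
    rw [hMdef] at hx ⊢
    rw [← map_pow]
    exact (characteristic_iff_le_comap.1 inferInstance (φ a)) hx
  have hMtop : M ≠ ⊤ := by
    intro h
    obtain ⟨x, hx⟩ := exists_prime_orderOf_dvd_card' (G := K ⧸ commutator K) q
      (by rwa [← index_eq_card])
    obtain ⟨y, rfl⟩ := QuotientGroup.mk'_surjective (commutator K) x
    have hy : y ^ m' ∈ commutator K := (hMdef y).1 (h.ge (mem_top y))
    have hdvd := orderOf_dvd_of_pow_eq_one (x := QuotientGroup.mk' (commutator K) y) (n := m')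
      (by rw [← map_pow, QuotientGroup.mk'_apply, QuotientGroup.eq_one_iff]; exact hy)
    rw [hx] at hdvd
    exact hm' hdvd
  haveI hMnil := hyp M hMtop hMinv
  have hmem : ∀ (r : ℕ), r.Prime → r ≠ q → ∀ x : K, (∃ k, orderOf x = r ^ k) → x ∈ M := by
    rintro r hr hrq x ⟨k, hk⟩
    rw [hMdef, ← QuotientGroup.eq_one_iff, ← QuotientGroup.mk'_apply, map_pow,
      ← orderOf_dvd_iff_pow_eq_one]
    have h1 : orderOf (QuotientGroup.mk' (commutator K) x) ∣ r ^ k := hk ▸ orderOf_map_dvd _ x
    have h2 : orderOf (QuotientGroup.mk' (commutator K) x) ∣ q ^ β * m' := by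
      rw [← hidx, index_eq_card]; exact orderOf_dvd_natCard _
    exact ((((Nat.coprime_primes hr hq).2 hrq).pow k β).coprime_dvd_left h1).dvd_of_dvd_mul_left h2
  -- the Sylow subgroups for the other primes
  have hsylow : ∀ (r : ℕ) [Fact r.Prime], r ≠ q → ∀ R : Sylow r K,
      (R : Subgroup K).Normal ∧ Inv φ (R : Subgroup K) := by
    intro r hr hrq R
    have hle : ∀ R : Sylow r K, (R : Subgroup K) ≤ M := fun R x hx => by
      obtain ⟨k, hk⟩ := IsPGroup.iff_orderOf.1 R.2 ⟨x, hx⟩
      rw [Subgroup.orderOf_mk] at hk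
      exact hmem r hr.out hrq x ⟨k, hk⟩
    have huniq : ∀ R R' : Sylow r K, (R : Subgroup K) = R' := by
      intro R R'
      have hn : ((R.subtype (hle R) : Sylow r M) : Subgroup M).Normal :=
        (Group.isNilpotent_of_finite_tfae.out 0 3 rfl rfl).mp hMnil r hr _
      haveI := Sylow.unique_of_normal _ hn
      have := congrArg Sylow.toSubgroup
        (Subsingleton.elim (R.subtype (hle R)) (R'.subtype (hle R')))
      rw [Sylow.coe_subtype, Sylow.coe_subtype, subgroupOf_inj, inf_eq_left.2 (hle R),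
        inf_eq_left.2 (hle R')] at this
      exact this
    refine ⟨⟨fun x hx g => ?_⟩, fun a x hx => ?_⟩
    · rw [huniq R (g • R)]
      exact ⟨x, hx, rfl⟩
    · let R' : Sylow r K := R.comapOfInjective (φ a).symm.toMonoidHom (φ a).symm.injective
        fun y _ => ⟨φ a y, (φ a).symm_apply_apply y⟩
      rw [huniq R R']
      show (φ a).symm (φ a x) ∈ (R : Subgroup K)
      rwa [MulEquiv.symm_apply_apply]
  obtain ⟨Q, hQinv⟩ := Coprime.exists_invariant_sylow_hom φ hcop (solvable_or hFTA hFTK hcop) q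
  by_cases hex : ∃ r : ℕ, ∃ _ : Fact r.Prime, r ≠ q ∧ ∃ R : Sylow r K,
      (R : Subgroup K) ⊔ (Q : Subgroup K) = ⊤
  · obtain ⟨r, hr, hrq, R, htop⟩ := hex
    obtain ⟨hRn, hRinv⟩ := hsylow r hrq R
    haveI := hRn
    obtain ⟨a, ha⟩ := IsPGroup.iff_card.1 R.2
    have hqq : IsPGroup q (K ⧸ (R : Subgroup K)) := by
      have hs : Function.Surjective ((QuotientGroup.mk' (R : Subgroup K)).comp (Q : Subgroup K).subtype) := by
        intro x
        obtain ⟨y, rfl⟩ := QuotientGroup.mk'_surjective _ x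
        have hy : y ∈ ((((R : Subgroup K) ⊔ Q : Subgroup K)) : Set K) := htop.ge (mem_top y)
        rw [normal_mul] at hy
        obtain ⟨u, hu, w, hw, rfl⟩ := hy
        refine ⟨⟨w, hw⟩, ?_⟩
        rw [map_mul, QuotientGroup.mk'_apply _ u, (QuotientGroup.eq_one_iff u).2 hu, one_mul]
        rfl
      exact Q.2.of_surjective _ hs
    obtain ⟨b, hb⟩ := IsPGroup.iff_card.1 hqq
    have hcard : Nat.card K = r ^ a * q ^ b := by
      rw [card_eq_card_quotient_mul_card_subgroup (R : Subgroup K), ha, hb, mul_comm]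
    refine ⟨⟨r, q, a, b, hr.out, hq, hrq, hcard⟩, r, R, hr.out, ?_, hRn, hRinv⟩
    rcases Nat.eq_zero_or_pos a with rfl | ha0
    · exfalso
      exact hK (IsPGroup.of_card (p := q) (n := b) (by rw [hcard, pow_zero, one_mul])).isNilpotent
    · exact hcard ▸ (dvd_pow_self r ha0.ne').mul_right _
  · exfalso
    apply hK
    have hQn : (Q : Subgroup K).Normal := by
      rw [← normalizer_eq_top_iff, ← index_eq_one]
      by_contra hne
      obtain ⟨r, hr, hrd⟩ := Nat.exists_prime_and_dvd hne
      haveI := Fact.mk hr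
      obtain ⟨R⟩ := (inferInstance : Nonempty (Sylow r K))
      rcases eq_or_ne r q with rfl | hrq
      · exact Q.not_dvd_index (hrd.trans (index_dvd_of_le le_normalizer))
      refine R.not_dvd_index (hrd.trans (index_dvd_of_le ?_))
      obtain ⟨hRn, hRinv⟩ := hsylow r hrq R
      have hH : (R : Subgroup K) ⊔ Q ≠ ⊤ := fun h => hex ⟨r, ⟨hr⟩, hrq, R, h⟩
      have hHinv : Inv φ ((R : Subgroup K) ⊔ Q) := fun a x hx => by
        have h := (map_sup (R : Subgroup K) (Q : Subgroup K) (φ a).toMonoidHom).le ⟨x, hx, rfl⟩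
        rwa [hRinv.map_eq a, (show Inv φ (Q : Subgroup K) from hQinv).map_eq a] at h
      haveI hHnil := hyp _ hH hHinv
      have hQH : ((Q.subtype le_sup_right : Sylow q ↥((R : Subgroup K) ⊔ Q)) :
          Subgroup ↥((R : Subgroup K) ⊔ Q)).Normal :=
        (Group.isNilpotent_of_finite_tfae.out 0 3 rfl rfl).mp hHnil q ⟨hq⟩ _
      rw [Sylow.coe_subtype] at hQH
      exact le_sup_left.trans ((normal_subgroupOf_iff_le_normalizer le_sup_right).1 hQH)
    refine (Group.isNilpotent_of_finite_tfae.out 0 3 rfl rfl).mpr fun r hr R => ?_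
    rcases eq_or_ne r q with rfl | hrq
    · obtain ⟨g, rfl⟩ := MulAction.exists_smul_eq K Q R
      haveI := hQn
      rw [Sylow.smul_eq_of_normal]
      exact hQn
    · haveI := hr
      exact (hsylow r hrq R).1

/-- The statement of S4240, given the odd order theorem. -/
theorem invariant_maximal_nilpotent {G : Type u} [Group G] [Finite G] [MulDistribMulAction A G]
    (hFTA : OddOrderGlue.FeitThompson.{v}) (hFTG : OddOrderGlue.FeitThompson.{u})
    (hcop : (Nat.card A).Coprime (Nat.card G))
    (hmax : ∀ H : Subgroup G, H ≠ ⊤ → (∀ a : A, ∀ x ∈ H, a • x ∈ H) →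
      (∀ K : Subgroup G, H < K → (∀ a : A, ∀ x ∈ K, a • x ∈ K) → K = ⊤) → Group.IsNilpotent H)
    (hG : ¬ Group.IsNilpotent G) :
    Group.IsSolvable G ∧
      (∃ p q a b : ℕ, p.Prime ∧ q.Prime ∧ p ≠ q ∧ Nat.card G = p ^ a * q ^ b) ∧
      ∃ (p : ℕ) (P : Sylow p G), p.Prime ∧ p ∣ Nat.card G ∧ (P : Subgroup G).Normal ∧
        (∀ a : A, ∀ x ∈ (P : Subgroup G), a • x ∈ (P : Subgroup G)) := by
  let φ : A →* MulAut G := MulDistribMulAction.toMulAut A G
  have hyp : ∀ H : Subgroup G, H ≠ ⊤ → Inv φ H → Group.IsNilpotent H := by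
    intro H hH hinv
    obtain ⟨M, ⟨hHM, hMne, hMinv⟩, hMmax⟩ := (Set.toFinite
      {M : Subgroup G | H ≤ M ∧ M ≠ ⊤ ∧ ∀ a : A, ∀ x ∈ M, a • x ∈ M}).exists_maximal
      ⟨H, le_rfl, hH, hinv⟩
    haveI := hmax M hMne hMinv fun K hK hKinv => by
      by_contra hne
      exact hK.not_ge (hMmax ⟨hHM.trans hK.le, hne, hKinv⟩ hK.le)
    exact Group.nilpotent_of_mulEquiv (subgroupOfEquivOfLe hHM)
  haveI := isSolvable_aux hFTA hFTG _ G φ rfl hcop hyp
  exact ⟨inferInstance, structure_of_solvable hFTA hFTG φ hcop hyp hG⟩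

end Cfsg.Agent.FTDown
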