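import Cfsg.Agent.Lib.OddOrderGlue.Basic
import Cfsg.Agent.LocalEven64.IsolatedElement

/-!
The commutator with an isolated element is solvable of odd order, given the odd order theorem.
-/

set_option autoImplicit false

namespace Cfsg.Agent.FTDown

universe u

/-- The statement of S2962, given the odd order theorem. -/
theorem solvable_odd_commutator (hFT : OddOrderGlue.FeitThompson.{u}) {G : Type u} [Group G]
    [Finite G] (N Q : Subgroup G) [N.Normal] (hG : Q ⊔ N = ⊤) (hQ : IsPGroup 2 ↥Q)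
    (hdisj : Q ⊓ N = ⊥) (t : G) (htZ : t ∈ Q ⊓ Subgroup.centralizer (Q : Set G)) (htQ : t ∈ ⁅Q, Q⁆)
    (hC : N ⊓ Subgroup.centralizer (Q : Set G) = N ⊓ Subgroup.centralizer ({t} : Set G)) :
    Group.IsSolvable ↥⁅N, Q⁆ ∧ Odd (Nat.card ↥⁅N, Q⁆) :=
  LocalEven64.solvable_odd_commutator_of_isolated hFT N Q hG hQ hdisj t htZ htQ hC

end Cfsg.Agent.FTDown
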