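import Cfsg.Agent.Lib.OddOrderGlue.Basic
import Cfsg.Agent.S0016
import Cfsg.Agent.S0201

/-!
A non-abelian finite simple group has a Klein four-subgroup, given the odd order theorem.
-/

set_option autoImplicit false
set_option linter.style.haveILetI false

namespace Cfsg.Agent.FTDown

open Cfsg Subgroup

universe u

/-- A non-cyclic simple group has no cyclic Sylow `2`-subgroup. -/
theorem no_cyclic_sylow_two {G : Type u} [Group G] [Finite G] [IsSimpleGroup G] (hnoncyc : ¬ IsCyclic G)
    (S : Sylow 2 G) (hcyc : IsCyclic S) (h2 : 2 ∣ Nat.card G) : False := by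
  haveI : Fact (Nat.Prime 2) := ⟨Nat.prime_two⟩
  haveI := hcyc
  have hmin : (Nat.card G).minFac = 2 := (Nat.minFac_eq_two_iff _).2 h2
  have hP := IsCyclic.normalizer_le_centralizer hmin hcyc
  have hc := MonoidHom.ker_transferSylow_isComplement' S hP
  rcases (MonoidHom.normal_ker (MonoidHom.transferSylow S hP)).eq_bot_or_eq_top with h | h
  · rw [h] at hc
    have hS : (S : Subgroup G) = ⊤ := Subgroup.isComplement'_bot_left.1 hc
    haveI : IsCyclic G := isCyclic_of_surjective (S : Subgroup G).subtype fun x =>
      ⟨⟨x, hS.ge (mem_top x)⟩, rfl⟩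
    exact hnoncyc inferInstance
  · rw [h] at hc
    have hS : (S : Subgroup G) = ⊥ := Subgroup.isComplement'_top_left.1 hc
    have := S.dvd_card_of_dvd_card h2
    rw [hS, card_bot] at this
    omega

/-- The statement of S0204, given the odd order theorem. -/
theorem exists_kleinFour (hFT : OddOrderGlue.FeitThompson.{u}) {G : Type u} [Group G] [Finite G]
    [IsSimpleGroup G] (hG : ¬ IsCyclic G) : ∃ E : Subgroup G, IsKleinFour E := by
  classical
  haveI : Fact (Nat.Prime 2) := ⟨Nat.prime_two⟩
  have hnc : ¬ ∀ a b : G, a * b = b * a := by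
    intro hc
    letI : CommGroup G := { (inferInstance : Group G) with mul_comm := hc }
    exact hG inferInstance
  have h2 := OddOrderGlue.two_dvd_card hFT G hnc
  have hZ : center G = ⊥ := by
    rcases (inferInstance : (center G).Normal).eq_bot_or_eq_top with h | h
    · exact h
    · exact absurd (fun a b => (mem_center_iff.1 (h.ge (mem_top b)) a)) hnc
  by_contra hno
  have huniq : ∀ (S : Sylow 2 G) (x y : (S : Subgroup G)), orderOf x = 2 → orderOf y = 2 →
      x * y = y * x → x = y := by
    intro S x y hx hy hxy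
    by_contra hne
    refine hno ⟨zpowers (x : G) ⊔ zpowers (y : G), ?_⟩
    have hx2 : (x : G) * x = 1 := by
      have := pow_orderOf_eq_one (x : G)
      rwa [Subgroup.orderOf_coe, hx, pow_two] at this
    have hy2 : (y : G) * y = 1 := by
      have := pow_orderOf_eq_one (y : G)
      rwa [Subgroup.orderOf_coe, hy, pow_two] at this
    have hc : (x : G) * y = y * x := congrArg Subtype.val hxy
    have hset : ∀ z ∈ zpowers (x : G) ⊔ zpowers (y : G), z * z = 1 := by
      have hcl : zpowers (x : G) ⊔ zpowers (y : G) = Subgroup.closure {(x : G), (y : G)} := by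
        rw [show ({(x : G), (y : G)} : Set G) = {(x : G)} ∪ {(y : G)} from rfl, Subgroup.closure_union,
          zpowers_eq_closure, zpowers_eq_closure]
      rw [hcl]
      have hab := isMulCommutative_closure (k := {(x : G), (y : G)}) (by
        rintro a (rfl | rfl) b (rfl | rfl) <;> first | rfl | exact hc | exact hc.symm)
      intro z hz
      induction hz using closure_induction with
      | mem a ha => rcases ha with rfl | rfl <;> assumption
      | one => simp
      | mul a b ha hb iha ihb =>
        have : a * b = b * a := congrArg Subtype.val (hab.is_comm.comm ⟨a, ha⟩ ⟨b, hb⟩)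
        calc a * b * (a * b) = (a * a) * (b * b) := by
              rw [mul_assoc, ← mul_assoc b, ← this]; group
          _ = 1 := by rw [iha, ihb, mul_one]
      | inv a _ iha => rw [← mul_inv_rev, iha, inv_one]
    have hexp : Monoid.exponent ↥(zpowers (x : G) ⊔ zpowers (y : G)) = 2 := by
      apply Nat.dvd_antisymm
      · exact Monoid.exponent_dvd_of_forall_pow_eq_one fun z => Subtype.ext (by
          simpa [pow_two] using hset z z.2)
      · have h := Monoid.order_dvd_exponent
          (⟨x, mem_sup_left (mem_zpowers _)⟩ : ↥(zpowers (x : G) ⊔ zpowers (y : G)))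
        rwa [Subgroup.orderOf_mk, Subgroup.orderOf_coe, hx] at h
    have hcop : zpowers (x : G) ⊓ zpowers (y : G) = ⊥ := by
      rw [eq_bot_iff]
      rintro z ⟨hzx, hzy⟩
      rw [mem_bot]
      by_contra hz1
      obtain ⟨i, rfl⟩ := mem_zpowers_iff.1 hzx
      obtain ⟨j, hj⟩ := mem_zpowers_iff.1 hzy
      have aux : ∀ (w : G) (i : ℤ), w * w = 1 → w ^ i ≠ 1 → w ^ i = w := by
        intro w i hw hne
        rcases Int.even_or_odd i with ⟨k, rfl⟩ | ⟨k, rfl⟩
        · exact absurd (by rw [zpow_add, ← (Commute.refl w).mul_zpow, hw, one_zpow]) hne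
        · rw [two_mul, zpow_add_one, zpow_add, ← (Commute.refl w).mul_zpow, hw, one_zpow, one_mul]
      have e1 := aux _ i hx2 hz1
      have e2 := aux _ j hy2 (hj ▸ hz1)
      exact hne (Subtype.ext (by rw [← e1, ← hj, e2]))
    refine ⟨?_, hexp⟩
    have hn : zpowers (y : G) ≤ normalizer (zpowers (x : G) : Set G) :=
      zpowers_le.2 (centralizer_le_normalizer _ (mem_centralizer_iff.2 fun z hz => by
        obtain ⟨i, rfl⟩ := mem_zpowers_iff.1 hz
        exact ((show Commute (x : G) y from hc).zpow_left i).eq))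
    have hcard : Nat.card ↥(zpowers (x : G) ⊔ zpowers (y : G)) =
        Nat.card (zpowers (x : G) × zpowers (y : G)) := by
      refine (Nat.card_eq_of_bijective (fun p : zpowers (x : G) × zpowers (y : G) =>
        (⟨(p.1 : G) * p.2, mul_mem_sup p.1.2 p.2.2⟩ : ↥(zpowers (x : G) ⊔ zpowers (y : G))))
        ⟨fun p q he => mul_injective_of_disjoint (disjoint_iff.2 hcop) (congrArg Subtype.val he),
          fun z => ?_⟩).symm
      have hz' := z.2
      rw [← SetLike.mem_coe, coe_mul_of_right_le_normalizer_left _ _ hn] at hz'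
      obtain ⟨a, ha, b, hb, hab⟩ := hz'
      exact ⟨(⟨a, ha⟩, ⟨b, hb⟩), Subtype.ext hab⟩
    rw [hcard, Nat.card_prod, Nat.card_zpowers, Nat.card_zpowers, Subgroup.orderOf_coe,
      Subgroup.orderOf_coe, hx, hy]
  obtain ⟨S⟩ := (inferInstance : Nonempty (Sylow 2 G))
  have hSne : Nontrivial (S : Subgroup G) := by
    rw [nontrivial_iff_ne_bot]
    intro hb
    have := S.dvd_card_of_dvd_card h2
    rw [hb, card_bot] at this
    omega
  haveI := hSne
  haveI := S.2.center_nontrivial
  obtain ⟨z, hz⟩ := exists_prime_orderOf_dvd_card' (G := ↥(center ↥(S : Subgroup G))) 2 (by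
    obtain ⟨k, hk0, hk⟩ := (S.2.to_subgroup (center ↥(S : Subgroup G))).nontrivial_iff_card.1 inferInstance
    rw [hk]
    exact dvd_pow_self 2 hk0.ne')
  have hone : ∀ H : Subgroup ↥(S : Subgroup G), Nat.card H = 2 → H = zpowers (z : ↥(S : Subgroup G)) := by
    intro H hH
    obtain ⟨w, hw⟩ := exists_prime_orderOf_dvd_card' (G := H) 2 hH.symm.dvd
    have hwz : (w : ↥(S : Subgroup G)) = z := huniq S _ _ (by rw [Subgroup.orderOf_coe, hw])
      (by rw [Subgroup.orderOf_coe, hz]) (mem_center_iff.1 z.2 _)
    refine (eq_of_le_of_card_ge (zpowers_le.2 (hwz ▸ w.2)) ?_).symm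
    rw [hH, Nat.card_zpowers, Subgroup.orderOf_coe, hz]
  rcases S0016.result 2 S.2 (fun H K hH hK => (hone H hH).trans (hone K hK).symm) with
    hcyc | ⟨-, n, ⟨e⟩⟩
  · exact no_cyclic_sylow_two hG S hcyc h2
  · rcases n with _ | m
    · haveI : IsCyclic (QuaternionGroup (2 ^ 0)) := QuaternionGroup.quaternionGroup_one_isCyclic
      exact no_cyclic_sylow_two hG S (isCyclic_of_surjective e.symm e.symm.surjective) h2
    · have hO : ∀ N : Subgroup G, N.Normal → Odd (Nat.card N) → N = ⊥ := fun N hN hodd => by
        rcases hN.eq_bot_or_eq_top with h | h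
        · exact h
        · exfalso
          rw [h, card_top] at hodd
          exact Nat.not_odd_iff_even.2 (even_iff_two_dvd.2 h2) hodd
      have := S0201.result S m e hO
      rw [hZ, card_bot] at this
      omega

end Cfsg.Agent.FTDown
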