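import Cfsg.Agent.FTDown.MetacyclicTwo
import Cfsg.Agent.Lib.OddOrderGlue.Basic
import Cfsg.Agent.TwoFusionB.QDSimple
import Cfsg.Agent.S0949

/-!
Groups with a metacyclic Sylow `2`-subgroup with quotient of order greater than two are soluble,
given the odd order theorem.
-/

set_option autoImplicit false
set_option linter.style.haveILetI false

namespace Cfsg.Agent.FTDown

open Cfsg Subgroup

universe u

/-- The statement of S4418, given the odd order theorem. -/
theorem isSolvable_metacyclic_two (hFT : OddOrderGlue.FeitThompson.{u}) {G : Type u} [Group G]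
    [Finite G] (S : Sylow 2 G) (N : Subgroup ↥(S : Subgroup G)) [N.Normal] (hNc : IsCyclic N)
    (hQc : IsCyclic (↥(S : Subgroup G) ⧸ N)) (hQ : 2 < Nat.card (↥(S : Subgroup G) ⧸ N)) :
    Group.IsSolvable G := by
  haveI : Fact (Nat.Prime 2) := ⟨Nat.prime_two⟩
  rcases hasNormalPComplement_or_homocyclic S N hQ with ⟨T, K, hK, hKT⟩ | ⟨k, hk, ⟨e⟩⟩
  · haveI := hK
    haveI : Group.IsSolvable K := hFT _ (by
      rw [← hKT.index_eq_card, ← Nat.not_even_iff_odd, even_iff_two_dvd]
      exact T.not_dvd_index)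
    haveI : Group.IsNilpotent (G ⧸ K) := by
      obtain ⟨n, hn⟩ := IsPGroup.iff_card.1 T.2
      exact (IsPGroup.of_card (n := n) (by rw [← index_eq_card, hKT.symm.index_eq_card, hn])).isNilpotent
    exact Group.isSolvable_of_ker_le_range K.subtype (QuotientGroup.mk' K)
      (by rw [QuotientGroup.ker_mk', range_subtype])
  · haveI : (oddCore G).Normal := Thompson.instPPrimeCoreNormal
    haveI : Group.IsSolvable (oddCore G) := hFT _ InvChar.odd_oddCore
    let π := QuotientGroup.mk' (oddCore G)
    have hπ : Function.Surjective π := QuotientGroup.mk'_surjective _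
    have hinj : Function.Injective (π.subgroupMap (S : Subgroup G)) := by
      rw [injective_iff_map_eq_one]
      intro s hs
      have hs' : (s : G) ∈ oddCore G := (QuotientGroup.eq_one_iff _).1 (congrArg Subtype.val hs)
      obtain ⟨n, hn⟩ := IsPGroup.iff_orderOf.1 S.2 s
      refine orderOf_eq_one_iff.1 (Nat.eq_one_of_dvd_coprimes
        ((Nat.coprime_two_left.2 (InvChar.odd_oddCore (G := G))).pow_left n) hn.dvd ?_)
      rw [← Subgroup.orderOf_coe]
      exact orderOf_dvd_natCard _ hs'
    let e' : ((S.mapSurjective hπ : Sylow 2 (G ⧸ oddCore G)) : Subgroup (G ⧸ oddCore G)) ≃*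
        Multiplicative (ZMod (2 ^ k) × ZMod (2 ^ k)) :=
      ((MulEquiv.subgroupCongr (Sylow.coe_mapSurjective hπ S)).trans
        (MulEquiv.ofBijective _ ⟨hinj, MonoidHom.subgroupMap_surjective π _⟩).symm).trans e
    obtain ⟨hn, -, hidx⟩ := S0949.result (S.mapSurjective hπ) k hk e' fun M hM hodd =>
      eq_bot_iff.2 (TwoFusionB.oddCore_quotient_eq_bot G ▸ InvChar.le_oddCore hM hodd)
    haveI := hn
    haveI : Group.IsNilpotent ((S.mapSurjective hπ : Sylow 2 (G ⧸ oddCore G)) : Subgroup (G ⧸ oddCore G)) :=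
      (S.mapSurjective hπ).2.isNilpotent
    haveI : Group.IsSolvable ((G ⧸ oddCore G) ⧸ ((S.mapSurjective hπ : Sylow 2 (G ⧸ oddCore G)) : Subgroup (G ⧸ oddCore G))) := by
      refine hFT _ ?_
      rw [← index_eq_card]
      rcases hidx with h | h <;> rw [h] <;> decide
    haveI : Group.IsSolvable (G ⧸ oddCore G) :=
      Group.isSolvable_of_ker_le_range (Subgroup.subtype _) (QuotientGroup.mk'
        ((S.mapSurjective hπ : Sylow 2 (G ⧸ oddCore G)) : Subgroup (G ⧸ oddCore G)))
        (by rw [QuotientGroup.ker_mk', range_subtype])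
    exact Group.isSolvable_of_ker_le_range (oddCore G).subtype π
      (by rw [QuotientGroup.ker_mk', range_subtype])

end Cfsg.Agent.FTDown
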