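import Cfsg.Agent.ConjFunctor.Basic
import Cfsg.Agent.Lib.Transfer.Frobenius
import Cfsg.Agent.Lib.PGroup.Basic
import Cfsg.Agent.Lib.PGroup.Commutator
import Cfsg.Agent.Lib.Coprime.Action

/-!
A Sylow `2`-subgroup with a cyclic normal subgroup with cyclic quotient of order at least four:
either there is a normal `2`-complement or the Sylow subgroup is homocyclic.
-/

set_option autoImplicit false
set_option linter.style.haveILetI false

namespace Cfsg.Agent.FTDown

open Cfsg Subgroup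
open Cfsg.Agent.ConjFunctor
open scoped commutatorElement

section General

variable {P : Type*} [Group P]

/-- An automorphism of odd order of a two-generated elementary abelian `2`-group. -/
theorem odd_aut_four (hexp : ∀ v : P, v * v = 1) {a b : P}
    (hgen : ∀ v : P, ∃ i j : ℕ, v = a ^ i * b ^ j) (f : MulAut P) {n : ℕ} (hn : Odd n)
    (hfn : f ^ n = 1) (hf : f ≠ 1) :
    a ≠ 1 ∧ f a ≠ 1 ∧ f a ≠ a ∧ f (f a) = a * f a ∧ ∀ v : P, v = 1 ∨ v = a ∨ v = f a ∨ v = a * f a := by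
  have hcases : ∀ v : P, v = 1 ∨ v = a ∨ v = b ∨ v = a * b := by
    intro v
    obtain ⟨i, j, rfl⟩ := hgen v
    have hp : ∀ (w : P) (i : ℕ), w ^ i = 1 ∨ w ^ i = w := by
      intro w i
      rcases Nat.even_or_odd i with ⟨m, rfl⟩ | ⟨m, rfl⟩
      · exact Or.inl (by rw [pow_add, ← (Commute.refl w).mul_pow, hexp, one_pow])
      · exact Or.inr (by rw [pow_succ, two_mul, pow_add, ← (Commute.refl w).mul_pow, hexp, one_pow,
          one_mul])
    rcases hp a i with h1 | h1 <;> rcases hp b j with h2 | h2 <;> rw [h1, h2] <;> simp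
  have hodd : ∀ e : MulAut P, e ^ n = 1 → e * e = 1 → e = 1 := by
    intro e he he2
    obtain ⟨m, rfl⟩ := hn
    rwa [pow_succ, two_mul, pow_add, ← (Commute.refl e).mul_pow, he2, one_pow, one_mul] at he
  -- an automorphism of odd order fixing `a` is trivial
  have hfix : ∀ e : MulAut P, e ^ n = 1 → e a = a → e = 1 := by
    intro e he hea
    refine hodd e he (MulEquiv.ext fun v => ?_)
    have key : e (e b) = b := by
      rcases hcases (e b) with h | h | h | h
      · have : b = 1 := e.injective (h.trans (map_one e).symm)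
        rw [this, map_one, map_one]
      · have : b = a := e.injective (h.trans hea.symm)
        rw [this, hea, hea]
      · rw [h, h]
      · rw [h, map_mul, hea, h, ← mul_assoc, hexp, one_mul]
    rcases hcases v with h | h | h | h <;> simp [h, MulAut.mul_apply, hea, key]
  have ha : a ≠ 1 := fun h => hf (hfix f hfn (by rw [h, map_one]))
  have hfa1 : f a ≠ 1 := fun h => ha (f.injective (h.trans (map_one f).symm))
  have hfa : f a ≠ a := fun h => hf (hfix f hfn h)
  have h2a : f (f a) ≠ a := fun h => hf (hodd f hfn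
    (hfix (f * f) (by rw [(Commute.refl f).mul_pow, hfn, one_mul]) h))
  have h2f : f (f a) ≠ f a := fun h => hfa (f.injective h)
  have h21 : f (f a) ≠ 1 := fun h => hfa1 (f.injective (h.trans (map_one f).symm))
  have hall : ∀ v : P, v = 1 ∨ v = a ∨ v = f a ∨ v = a * f a := by
    intro v
    rcases hcases v with h | h | h | h
    · exact Or.inl h
    · exact Or.inr (Or.inl h)
    all_goals
      rcases hcases (f a) with h' | h' | h' | h'
      · exact absurd h' hfa1
      · exact absurd h' hfa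
      · simp [h, h']
      · simp [h, h', ← mul_assoc, hexp]
  refine ⟨ha, hfa1, hfa, ?_, hall⟩
  rcases hall (f (f a)) with h | h | h | h
  · exact absurd h h21
  · exact absurd h h2a
  · exact absurd h h2f
  · exact h

end General

variable {G : Type*} [Group G] [Finite G]

/-- The action of the normalizer on the Frattini quotient. -/
noncomputable def frattiniAct (P : Subgroup G) :
    ↥(nrm P) →* MulAut (↥P ⧸ frattini ↥P) :=
  (MonoidHom.mk' (fun φ : MulAut ↥P => QuotientGroup.congr (frattini ↥P) (frattini ↥P) φ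
      (Subgroup.characteristic_iff_map_eq.1 inferInstance φ))
    fun a b => MulEquiv.ext fun x => by
      obtain ⟨y, rfl⟩ := QuotientGroup.mk'_surjective (frattini ↥P) x
      rfl).comp P.normalizerMonoidHom

theorem frattiniAct_mk (P : Subgroup G) (g : ↥(nrm P)) (p : ↥P) :
    frattiniAct P g (QuotientGroup.mk p) =
      QuotientGroup.mk (⟨g * p * (g : G)⁻¹, conj_mem_of_nrm g.2 p.2⟩ : ↥P) := rfl

theorem le_nrm_map_ker {H : Subgroup G} {M : Type*} [Group M] (f : ↥H →* M) :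
    H ≤ nrm (f.ker.map H.subtype) := by
  intro u hu
  refine mem_nrm_of_forall fun z hz => ?_
  obtain ⟨z, hz, rfl⟩ := hz
  exact ⟨⟨u, hu⟩ * z * ⟨u, hu⟩⁻¹, (MonoidHom.normal_ker f).conj_mem _ hz _, rfl⟩

/-- Some element of odd order acts nontrivially on `P`. -/
def OddMoved (P : Subgroup G) : Prop :=
  ∃ g ∈ nrm P, Odd (orderOf g) ∧ g ∉ Subgroup.centralizer (P : Set G)

theorem OddMoved.cnj {P : Subgroup G} (h : OddMoved P) (y : G) : OddMoved (ConjFunctor.cnj y P) := by
  obtain ⟨g, hg, ho, hc⟩ := h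
  refine ⟨y * g * y⁻¹, ?_, ?_, ?_⟩
  · rw [← cnj_nrm, conj_mem_cnj]; exact hg
  · have : orderOf (y * g * y⁻¹) = orderOf g :=
      orderOf_injective (MulAut.conj y).toMonoidHom (MulAut.conj y).injective g
    rwa [this]
  · rw [← cnj_centralizer, conj_mem_cnj]; exact hc

theorem frattiniAct_ne_one {P : Subgroup G} (hP : IsPGroup 2 P) {g : G} (hg : g ∈ nrm P)
    (ho : Odd (orderOf g)) (hc : g ∉ Subgroup.centralizer (P : Set G)) :
    frattiniAct P ⟨g, hg⟩ ≠ 1 := by
  haveI : Fact (Nat.Prime 2) := ⟨Nat.prime_two⟩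
  intro h1
  refine hc (Coprime.le_centralizer_of_frattini (zpowers g) P (zpowers_le.2 hg) ?_ ?_ (mem_zpowers g))
  · obtain ⟨j, hj⟩ := IsPGroup.iff_card.1 (hP.to_subgroup (frattini ↥P))
    rw [Nat.card_zpowers, hj]
    exact (Nat.coprime_two_right.2 ho).pow_right j
  · intro x hx p hp
    have hxn : x ∈ nrm P := zpowers_le.2 hg hx
    have hψ : frattiniAct P ⟨x, hxn⟩ = 1 := by
      obtain ⟨i, rfl⟩ := mem_zpowers_iff.1 hx
      have : (⟨g ^ i, hxn⟩ : ↥(nrm P)) = ⟨g, hg⟩ ^ i := Subtype.ext (by simp)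
      rw [this, map_zpow, h1, one_zpow]
    have h2 := frattiniAct_mk P ⟨x, hxn⟩ ⟨p, hp⟩
    rw [hψ] at h2
    have h3 := QuotientGroup.eq_iff_div_mem.1 h2.symm
    exact ⟨_, h3, by simp [div_eq_mul_inv]⟩

section Metacyclic

variable (S : Sylow 2 G) (N : Subgroup ↥(S : Subgroup G)) [N.Normal]
  [hNc : IsCyclic N] [hQc : IsCyclic (↥(S : Subgroup G) ⧸ N)]
  (hQ : 2 < Nat.card (↥(S : Subgroup G) ⧸ N))


omit hNc hQc in
theorem card_quotient_pow : ∃ m, Nat.card (↥(S : Subgroup G) ⧸ N) = 2 ^ m := by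
  haveI : Fact (Nat.Prime 2) := ⟨Nat.prime_two⟩
  exact IsPGroup.iff_card.1 (S.2.to_quotient N)

include hQ in
omit hNc in
/-- A non-square generates the quotient; its square is nontrivial. -/
theorem gen_of_not_sq (u : (↥(S : Subgroup G) ⧸ N)) (hu : ¬ ∃ w : (↥(S : Subgroup G) ⧸ N), u = w * w) :
    u * u ≠ 1 ∧ ∀ v : (↥(S : Subgroup G) ⧸ N), ∃ i : ℕ, v = u ^ i := by
  classical
  obtain ⟨γ, hγ⟩ := IsCyclic.exists_generator (α := (↥(S : Subgroup G) ⧸ N))
  obtain ⟨m, hm⟩ := card_quotient_pow S N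
  have hog : orderOf γ = Nat.card (↥(S : Subgroup G) ⧸ N) := orderOf_eq_card_of_forall_mem_zpowers hγ
  obtain ⟨i, rfl⟩ : ∃ i : ℕ, γ ^ i = u := mem_powers_iff_mem_zpowers.2 (hγ u)
  have hio : Odd i := by
    rw [← Nat.not_even_iff_odd]
    rintro ⟨j, rfl⟩
    exact hu ⟨γ ^ j, pow_add γ j j⟩
  have hcop : Nat.Coprime i (orderOf γ) := by
    rw [hog, hm]; exact (Nat.coprime_two_right.2 hio).pow_right m
  have ho : orderOf (γ ^ i) = Nat.card (↥(S : Subgroup G) ⧸ N) := by rw [(Nat.Coprime.orderOf_pow hcop.symm), hog]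
  refine ⟨fun h => ?_, fun v => ?_⟩
  · have := orderOf_le_of_pow_eq_one (x := γ ^ i) (n := 2) (by norm_num) (by rw [pow_two]; exact h)
    omega
  · have htop : zpowers (γ ^ i) = ⊤ := eq_top_of_card_eq _ (by rw [Nat.card_zpowers, ho])
    obtain ⟨j, hj⟩ := mem_powers_iff_mem_zpowers.2 (htop.ge (mem_top v))
    exact ⟨j, hj.symm⟩

include hQ in
omit hNc in
theorem sq_of_sq_eq_one (u : (↥(S : Subgroup G) ⧸ N)) (h : u * u = 1) : ∃ w : (↥(S : Subgroup G) ⧸ N), u = w * w := by
  by_contra hu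
  exact (gen_of_not_sq S N hQ u hu).1 h

omit hNc in
theorem eq_of_involution {u v : (↥(S : Subgroup G) ⧸ N)} (hu : u * u = 1) (hu1 : u ≠ 1) (hv : v * v = 1) (hv1 : v ≠ 1) :
    u = v := by
  classical
  letI : Fintype (↥(S : Subgroup G) ⧸ N) := Fintype.ofFinite _
  by_contra hne
  have h3 : ({1, u, v} : Finset (↥(S : Subgroup G) ⧸ N)).card = 3 := by
    rw [Finset.card_insert_of_notMem (by simp [hu1.symm, hv1.symm]),
      Finset.card_insert_of_notMem (by simp [hne]), Finset.card_singleton]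
  have hle := Finset.card_le_card (show ({1, u, v} : Finset (↥(S : Subgroup G) ⧸ N)) ⊆
      Finset.univ.filter (fun w : (↥(S : Subgroup G) ⧸ N) => w ^ 2 = 1) by
    intro w hw
    simp only [Finset.mem_insert, Finset.mem_singleton] at hw
    rcases hw with rfl | rfl | rfl <;> simp [pow_two, hu, hv])
  have := IsCyclic.card_pow_eq_one_le (α := (↥(S : Subgroup G) ⧸ N)) (n := 2) (by norm_num)
  omega

omit hQc in
/-- An element whose image is a square centralizes the elements of `N` of order dividing `4`. -/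
theorem comm_four {y n : ↥(S : Subgroup G)} (hn : n ∈ N) (h4 : n ^ 4 = 1) (w : (↥(S : Subgroup G) ⧸ N))
    (hy : (QuotientGroup.mk' N) y = w * w) : y * n = n * y := by
  obtain ⟨s, rfl⟩ := QuotientGroup.mk'_surjective N w
  have hm : (s * s)⁻¹ * y ∈ N := by
    rw [← QuotientGroup.eq_one_iff]
    show (QuotientGroup.mk' N) ((s * s)⁻¹ * y) = 1
    rw [map_mul, map_inv, map_mul, hy, inv_mul_cancel]
  obtain ⟨m, hmN, rfl⟩ : ∃ m ∈ N, y = s * s * m := ⟨_, hm, by rw [mul_inv_cancel_left]⟩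
  obtain ⟨γ, hγ⟩ := IsCyclic.exists_generator (α := ↥N)
  have hcN : ∀ p q, p ∈ N → q ∈ N → p * q = q * p := by
    intro p q hp hq
    obtain ⟨i, hi⟩ := mem_zpowers_iff.1 (hγ ⟨p, hp⟩)
    obtain ⟨j, hj⟩ := mem_zpowers_iff.1 (hγ ⟨q, hq⟩)
    exact congrArg Subtype.val (show (⟨p, hp⟩ : ↥N) * ⟨q, hq⟩ = ⟨q, hq⟩ * ⟨p, hp⟩ by
      rw [← hi, ← hj]; exact (zpow_mul_comm γ i j))
  obtain ⟨r, hr⟩ : ∃ r : ℤ, ∀ q ∈ N, s * q * s⁻¹ = q ^ r := by
    obtain ⟨r, hr⟩ := mem_zpowers_iff.1
      (hγ ⟨s * γ * s⁻¹, (inferInstance : N.Normal).conj_mem _ γ.2 s⟩)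
    refine ⟨r, fun q hq => ?_⟩
    obtain ⟨i, hi⟩ := mem_zpowers_iff.1 (hγ ⟨q, hq⟩)
    have hq' : (q : ↥(S : Subgroup G)) = (γ : ↥(S : Subgroup G)) ^ i := by
      rw [← SubgroupClass.coe_zpow, hi]
    have hr' : s * (γ : ↥(S : Subgroup G)) * s⁻¹ = (γ : ↥(S : Subgroup G)) ^ r := by
      rw [← SubgroupClass.coe_zpow, hr]
    rw [hq', ← conj_zpow, hr', ← zpow_mul, ← zpow_mul, mul_comm]
  have hrr : n ^ (r * r) = n := by
    rcases Int.even_or_odd r with ⟨u, hu⟩ | ⟨u, hu⟩
    · have h2 : n ^ (2 : ℕ) = 1 := by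
        have h := hr (n ^ 2) (N.pow_mem hn 2)
        rw [hu, ← two_mul, zpow_mul, zpow_ofNat, ← pow_mul, h4, one_zpow, mul_inv_eq_one,
          mul_eq_left] at h
        exact h
      have h := hr n hn
      rw [hu, ← two_mul, zpow_mul, zpow_ofNat, h2, one_zpow, mul_inv_eq_one, mul_eq_left] at h
      rw [h, one_zpow]
    · rw [hu, show (2 * u + 1) * (2 * u + 1) = 4 * (u * u + u) + 1 by ring, zpow_add_one, zpow_mul,
        zpow_ofNat, h4, one_zpow, one_mul]
  have h1 : s * s * n * (s * s)⁻¹ = n := by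
    calc s * s * n * (s * s)⁻¹ = s * (s * n * s⁻¹) * s⁻¹ := by group
      _ = (s * n * s⁻¹) ^ r := by rw [← hr _ ((inferInstance : N.Normal).conj_mem _ hn s)]
      _ = n := by rw [hr n hn, ← zpow_mul, hrr]
  rw [mul_assoc, hcN m n hmN hn, ← mul_assoc, ← mul_assoc n]
  rw [mul_inv_eq_iff_eq_mul] at h1
  rw [h1]

include hQ

set_option maxHeartbeats 1600000 in
/-- The main dichotomy. -/
theorem hasNormalPComplement_or_homocyclic :
    HasNormalPComplement 2 G ∨
      ∃ k, 2 ≤ k ∧ Nonempty ((S : Subgroup G) ≃* Multiplicative (ZMod (2 ^ k) × ZMod (2 ^ k))) := by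
  classical
  haveI : Fact (Nat.Prime 2) := ⟨Nat.prime_two⟩
  by_cases hbad : ∃ P : Subgroup G, P ≤ (S : Subgroup G) ∧ OddMoved P
  swap
  · refine Or.inl (Transfer.hasNormalPComplement_of_normalizer_centralizer S
      fun D hD _ g hg hgo => ?_)
    by_contra hc
    exact hbad ⟨D, hD, g, hg, Nat.coprime_two_right.1 hgo, hc⟩
  right
  -- a moved subgroup of greatest order
  obtain ⟨P₀, ⟨hP₀S, hP₀⟩, hmax₀⟩ := Set.exists_max_image
    {P : Subgroup G | P ≤ (S : Subgroup G) ∧ OddMoved P} (fun P : Subgroup G => Nat.card P)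
    (Set.toFinite _) hbad
  obtain ⟨y, hyS, hfull, -⟩ := exists_fully S hP₀S
  obtain ⟨P, hPdef⟩ : ∃ P, P = cnj y P₀ := ⟨_, rfl⟩
  rw [← hPdef] at hyS hfull
  obtain ⟨g, hg, hgo, hgc⟩ : OddMoved P := hPdef ▸ hP₀.cnj y
  have hmax : ∀ D : Subgroup G, D ≤ (S : Subgroup G) → OddMoved D → Nat.card D ≤ Nat.card P := by
    intro D h1 h2
    rw [hPdef, card_cnj]
    exact hmax₀ D ⟨h1, h2⟩
  have hP2 : IsPGroup 2 P := S.2.to_le hyS
  -- the map to the quotient and generators
  let i₀ : ↥P →* ↥(S : Subgroup G) := Subgroup.inclusion hyS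
  let q : ↥P →* (↥(S : Subgroup G) ⧸ N) := ((QuotientGroup.mk' N)).comp i₀
  have hi₀ : Function.Injective i₀ := Subgroup.inclusion_injective hyS
  have hqker : ∀ p, q p = 1 ↔ i₀ p ∈ N := fun p => QuotientGroup.eq_one_iff _
  haveI : IsCyclic ↥q.ker :=
    isCyclic_of_injective
      (((i₀.comp q.ker.subtype).codRestrict N fun p => (hqker p).1 p.2))
      (fun a b h => Subtype.ext (hi₀ (congrArg Subtype.val h)))
  obtain ⟨⟨a, haK⟩, hagen⟩ := IsCyclic.exists_generator (α := ↥q.ker)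
  have haN : i₀ a ∈ N := (hqker a).1 haK
  have hker : ∀ p, q p = 1 → ∃ i : ℕ, p = a ^ i := by
    intro p hp
    obtain ⟨i, hi⟩ := mem_powers_iff_mem_zpowers.2 (hagen ⟨p, hp⟩)
    exact ⟨i, (congrArg Subtype.val hi).symm⟩
  obtain ⟨⟨qb, b, rfl⟩, hbgen⟩ := IsCyclic.exists_generator (α := ↥q.range)
  have hgen : ∀ p, ∃ i j : ℕ, p = a ^ i * b ^ j := by
    intro p
    obtain ⟨j, hj⟩ := mem_powers_iff_mem_zpowers.2 (hbgen ⟨q p, p, rfl⟩)
    have hj' : q b ^ (j : ℕ) = q p := congrArg Subtype.val hj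
    obtain ⟨i, hi⟩ := hker (p * (b ^ (j : ℕ))⁻¹) (by
      rw [map_mul, map_inv, map_pow, hj', mul_inv_cancel])
    exact ⟨i, j, by rw [← hi, inv_mul_cancel_right]⟩
  -- the automorphism induced by `g`
  let ψ := frattiniAct P
  let e : MulAut ↥P := P.normalizerMonoidHom ⟨g, hg⟩
  have hψe : ∀ p : ↥P, ψ ⟨g, hg⟩ (QuotientGroup.mk p) = QuotientGroup.mk (e p) := fun p => rfl
  have hψn : ψ ⟨g, hg⟩ ^ orderOf g = 1 := by
    rw [← map_pow, show (⟨g, hg⟩ : ↥(nrm P)) ^ orderOf g = 1 from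
      Subtype.ext (by simp [pow_orderOf_eq_one]), map_one]
  have hψ1 : ψ ⟨g, hg⟩ ≠ 1 := frattiniAct_ne_one hP2 hg hgo hgc
  let bar : ↥P →* ↥P ⧸ frattini ↥P := QuotientGroup.mk' (frattini ↥P)
  have hexp : ∀ v : ↥P ⧸ frattini ↥P, v * v = 1 := fun v => by
    rw [← pow_two]; exact PGroup.quotient_frattini_pow hP2 v
  obtain ⟨hā, -, hxa, hx2, hall⟩ := odd_aut_four hexp (a := bar a) (b := bar b)
    (fun v => by
      obtain ⟨p, rfl⟩ := QuotientGroup.mk'_surjective _ v
      obtain ⟨i, j, rfl⟩ := hgen p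
      exact ⟨i, j, by rw [map_mul, map_pow, map_pow]⟩)
    (ψ ⟨g, hg⟩) hgo hψn hψ1
  obtain ⟨x, hxdef⟩ : ∃ x, x = e a := ⟨_, rfl⟩
  have hbx : ψ ⟨g, hg⟩ (bar a) = bar x := by rw [hxdef]; exact hψe a
  rw [hbx] at hxa hx2 hall
  have hbx1 : bar x ≠ 1 := by
    rw [← hbx]
    exact fun h => hā ((ψ ⟨g, hg⟩).injective (h.trans (map_one _).symm))
  have hax1 : bar a * bar x ≠ 1 := fun h => hxa (by
    rw [← mul_eq_one_iff_inv_eq.1 h]
    exact inv_eq_of_mul_eq_one_right (hexp _))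
  have hpar : ∀ i j : ℕ, bar (a ^ i * x ^ j) = 1 → Even i ∧ Even j := by
    intro i j h
    have hp : ∀ (w : ↥P ⧸ frattini ↥P) (i : ℕ), (Even i → w ^ i = 1) ∧ (Odd i → w ^ i = w) := by
      refine fun w i => ⟨?_, ?_⟩
      · rintro ⟨m, rfl⟩
        rw [pow_add, ← (Commute.refl w).mul_pow, hexp, one_pow]
      · rintro ⟨m, rfl⟩
        rw [pow_succ, two_mul, pow_add, ← (Commute.refl w).mul_pow, hexp, one_pow, one_mul]
    rw [map_mul, map_pow, map_pow] at h
    rcases Nat.even_or_odd i with hi | hi <;> rcases Nat.even_or_odd j with hj | hj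
    · exact ⟨hi, hj⟩
    · rw [(hp _ i).1 hi, (hp _ j).2 hj, one_mul] at h; exact absurd h hbx1
    · rw [(hp _ i).2 hi, (hp _ j).1 hj, mul_one] at h; exact absurd h hā
    · rw [(hp _ i).2 hi, (hp _ j).2 hj] at h; exact absurd h hax1
  -- `P = ⟨a⟩⟨x⟩`
  have hQcomm : ∀ u v : (↥(S : Subgroup G) ⧸ N), u * v = v * u := by
    intro u v
    obtain ⟨γ, hγ⟩ := IsCyclic.exists_generator (α := (↥(S : Subgroup G) ⧸ N))
    obtain ⟨i, rfl⟩ := mem_zpowers_iff.1 (hγ u)
    obtain ⟨j, rfl⟩ := mem_zpowers_iff.1 (hγ v)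
    exact zpow_mul_comm γ i j
  have hcomK : ∀ u v : ↥P, ∃ i : ℕ, ⁅u, v⁆ = a ^ i := fun u v => hker _ (by
    rw [map_commutatorElement, commutatorElement_eq_one_iff_mul_comm]; exact hQcomm _ _)
  have hXY : ∀ p : ↥P, ∃ i j : ℕ, p = a ^ i * x ^ j := by
    have hn : zpowers x ≤ Subgroup.normalizer (zpowers a : Set ↥P) := by
      have hka : q.ker = zpowers a := by
        refine le_antisymm (fun p hp => ?_) (zpowers_le.2 haK)
        obtain ⟨i, rfl⟩ := hker p hp
        exact npow_mem_zpowers a i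
      haveI : (zpowers a).Normal := hka ▸ MonoidHom.normal_ker q
      rw [Subgroup.normalizer_eq_top (zpowers a)]
      exact le_top
    have htop : zpowers a ⊔ zpowers x = ⊤ := by
      refine frattini_nongenerating ?_
      refine eq_top_iff.2 fun p _ => ?_
      have hmemA : a ∈ zpowers a ⊔ zpowers x := mem_sup_left (mem_zpowers a)
      have hmemX : x ∈ zpowers a ⊔ zpowers x := mem_sup_right (mem_zpowers x)
      have key : ∀ w ∈ zpowers a ⊔ zpowers x, bar p = bar w →
          p ∈ (zpowers a ⊔ zpowers x) ⊔ frattini ↥P := by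
        intro w hw h
        have h' : w⁻¹ * p ∈ frattini ↥P := QuotientGroup.eq.1 h.symm
        rw [← mul_inv_cancel_left w p]
        exact mul_mem_sup hw h'
      rcases hall (bar p) with h | h | h | h
      · exact key 1 (one_mem _) (h.trans (map_one bar).symm)
      · exact key a hmemA h
      · exact key x hmemX h
      · exact key _ (mul_mem hmemA hmemX) (h.trans (map_mul bar a x).symm)
    intro p
    have hp : p ∈ ((zpowers a ⊔ zpowers x : Subgroup ↥P) : Set ↥P) := htop.ge (mem_top p)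
    rw [coe_mul_of_right_le_normalizer_left _ _ hn] at hp
    obtain ⟨u, hu, v, hv, rfl⟩ := hp
    obtain ⟨i, hi⟩ := mem_powers_iff_mem_zpowers.2 hu
    obtain ⟨j, hj⟩ := mem_powers_iff_mem_zpowers.2 hv
    exact ⟨i, j, by simp only [← hi, ← hj]⟩
  obtain ⟨k, hk⟩ := IsPGroup.iff_orderOf.1 hP2 a
  have hxk : orderOf x = 2 ^ k := by
    rw [hxdef, ← hk]; exact orderOf_injective e.toMonoidHom e.injective a
  have ha1 : a ≠ 1 := fun h => hā (by rw [h, map_one])
  have hk0 : k ≠ 0 := fun h => ha1 (orderOf_eq_one_iff.1 (by rw [hk, h, pow_zero]))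
  -- commutators lie in both cyclic groups
  obtain ⟨ec, hec⟩ := hcomK x a
  obtain ⟨fc, hfc⟩ : ∃ i : ℕ, ⁅x, a⁆ = x ^ i := by
    obtain ⟨i, hi⟩ := hcomK (e.symm x) (e.symm a)
    refine ⟨i, ?_⟩
    have := congrArg e hi
    rwa [map_commutatorElement, MulEquiv.apply_symm_apply, MulEquiv.apply_symm_apply, map_pow,
      ← hxdef] at this
  have hca : Commute ⁅x, a⁆ a := hec ▸ (Commute.refl a).pow_left ec
  have hcx : Commute ⁅x, a⁆ x := hfc ▸ (Commute.refl x).pow_left fc
  have hinter : ∀ i j : ℕ, a ^ i = x ^ j → a ^ i = 1 := by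
    by_contra hne
    push Not at hne
    obtain ⟨i, j, hij, hne⟩ := hne
    -- the involution of both cyclic groups
    have hk1 : 2 ^ k = 2 ^ (k - 1) * 2 := by rw [← pow_succ]; congr 1; omega
    set n := 2 ^ (k - 1) with hn
    set z := a ^ n with hz
    have hz1 : z ≠ 1 := by
      intro h
      have := Nat.le_of_dvd (by positivity) (orderOf_dvd_of_pow_eq_one h)
      rw [hk, hk1] at this
      have : 0 < n := by positivity
      omega
    have hz2 : z * z = 1 := by
      rw [hz, ← pow_add, ← two_mul, mul_comm, ← hk1, ← hk, pow_orderOf_eq_one]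
    have hzx : x ^ n = z := by
      obtain ⟨u, hu⟩ := IsPGroup.iff_orderOf.1 hP2 (a ^ i)
      have hu0 : u ≠ 0 := fun h => hne (orderOf_eq_one_iff.1 (by rw [hu, h, pow_zero]))
      set w := (a ^ i) ^ 2 ^ (u - 1) with hw
      have hw1 : w ≠ 1 := by
        intro h
        have := Nat.le_of_dvd (by positivity) (orderOf_dvd_of_pow_eq_one h)
        rw [hu] at this
        have := Nat.pow_lt_pow_right (a := 2) one_lt_two (show u - 1 < u by omega)
        omega
      have hw2 : w ^ 2 = 1 := by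
        rw [hw, ← pow_mul, ← pow_succ, show u - 1 + 1 = u by omega, ← hu, pow_orderOf_eq_one]
      have key : ∀ c : ↥P, orderOf c = 2 ^ k → (∃ m : ℕ, w = c ^ m) → w = c ^ n := by
        rintro c hc ⟨m, hm⟩
        have hd : orderOf c ∣ m * 2 := orderOf_dvd_of_pow_eq_one (by rw [pow_mul, ← hm, hw2])
        rw [hc, hk1] at hd
        obtain ⟨t, rfl⟩ := Nat.dvd_of_mul_dvd_mul_right two_pos hd
        rcases Nat.even_or_odd t with ⟨s, rfl⟩ | ⟨s, rfl⟩
        · refine absurd ?_ hw1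
          rw [hm, ← two_mul, ← mul_assoc, ← hk1, pow_mul, ← hc, pow_orderOf_eq_one, one_pow]
        · rw [hm, mul_add, mul_one, ← mul_assoc, ← hk1, pow_add, pow_mul, ← hc, pow_orderOf_eq_one,
            one_pow, one_mul]
      have h1 := key a hk ⟨i * 2 ^ (u - 1), by rw [hw, pow_mul]⟩
      have h2 := key x hxk ⟨j * 2 ^ (u - 1), by rw [hw, hij, pow_mul]⟩
      rw [← h2, h1]
    obtain ⟨i', j', hij'⟩ := hXY (e x)
    have hodd : Odd i' ∧ Odd j' := by
      have h1 : bar (e x) = bar a * bar x := by rw [← hx2]; exact (hψe x).symm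
      rw [hij'] at h1
      have h2 : bar (a ^ (i' + 1) * x ^ (j' + 1)) = 1 := by
        have hcm := fun v w : ↥P ⧸ frattini ↥P => PGroup.quotient_frattini_commute hP2 v w
        rw [map_mul, map_pow, map_pow, pow_succ, pow_succ, (hcm _ (bar x ^ j')).mul_mul_mul_comm]
        rw [map_mul, map_pow, map_pow] at h1
        rw [h1, hexp]
      obtain ⟨h3, h4⟩ := hpar _ _ h2
      exact ⟨Nat.not_even_iff_odd.1 fun h => by simp [Nat.even_add_one, h] at h3,
        Nat.not_even_iff_odd.1 fun h => by simp [Nat.even_add_one, h] at h4⟩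
    have hgz : e x ^ n = z := by
      rw [← map_pow, hzx, hz, map_pow, ← hxdef, hzx]
    have hzodd : ∀ m : ℕ, Odd m → z ^ m = z := by
      rintro m ⟨s, rfl⟩
      rw [pow_succ, two_mul, pow_add, ← (Commute.refl z).mul_pow, hz2, one_pow, one_mul]
    have hc' : ⁅x ^ j', a ^ i'⁆ = ⁅x, a⁆ ^ (j' * i') := by
      have h1 : ⁅x, a ^ i'⁆ = ⁅x, a⁆ ^ i' := PGroup.commutatorElement_pow_right hca i'
      rw [PGroup.commutatorElement_pow_left (by rw [h1]; exact hcx.pow_left i') j', h1, ← pow_mul,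
        mul_comm]
    have h1 := PGroup.mul_pow_of_commute_commutator (a := a ^ i') (b := x ^ j')
      (by rw [hc']; exact (hca.pow_left _).pow_right _)
      (by rw [hc']; exact (hcx.pow_left _).pow_right _) n
    rw [← hij', hgz, hc', ← pow_mul, ← pow_mul, mul_comm i' n, mul_comm j' n, pow_mul, pow_mul,
      ← hz, hzx, hzodd _ hodd.1, hzodd _ hodd.2, hz2, one_mul, ← pow_mul] at h1
    rw [hec, ← pow_mul] at h1
    -- only the quaternion group of order eight is left
    rcases Nat.lt_or_ge k 2 with hk2 | hk2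
    · have : k = 1 := by omega
      subst this
      simp [hn] at h1
      exact hz1 h1
    have h4 : ¬ 4 ∣ ec := by
      rintro ⟨t, rfl⟩
      apply hz1
      have hev : 2 ^ (k - 2) ∣ n.choose 2 := by
        have hnn : n = 2 * 2 ^ (k - 2) := by
          rw [hn, ← pow_succ']; congr 1; omega
        rw [Nat.choose_two_right, hnn, mul_assoc, Nat.mul_div_cancel_left _ two_pos]
        exact dvd_mul_right _ _
      obtain ⟨v, hv⟩ := hev
      rw [h1, hv]
      apply orderOf_dvd_iff_pow_eq_one.1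
      rw [hk, show k = 2 + (k - 2) by omega, pow_add]
      refine Dvd.intro (t * (j' * i') * v) ?_
      rw [show 2 + (k - 2) - 2 = k - 2 by omega]
      ring
    have hxa' : x * a * x⁻¹ = a ^ (ec + 1) := by
      rw [PGroup.conj_eq_comm_mul, hec, pow_succ]
    have he2 : Even ec := by
      rw [← Nat.not_odd_iff_even]
      intro ho
      obtain ⟨s, hs⟩ := ho.add_one
      have h1 : orderOf (x * a * x⁻¹) = 2 ^ k :=
        (orderOf_injective (MulAut.conj x).toMonoidHom (MulAut.conj x).injective a).trans hk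
      have h2 : (x * a * x⁻¹) ^ n = 1 := by
        rw [hxa', hs, ← two_mul, ← pow_mul, mul_comm, ← mul_assoc, ← hk1, pow_mul, ← hk,
          pow_orderOf_eq_one, one_pow]
      have := Nat.le_of_dvd (by positivity) (orderOf_dvd_of_pow_eq_one h2)
      rw [h1, hk1] at this
      have : 0 < n := by positivity
      omega
    have hsq : 2 ^ k ∣ ec * ec := by
      rw [← hk]
      apply orderOf_dvd_of_pow_eq_one
      have h2 : x * a ^ ec * x⁻¹ = a ^ ec := by
        rw [← hec, ← hcx.eq, mul_inv_cancel_right]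
      rw [← conj_pow, hxa', ← pow_mul, add_mul, one_mul, pow_add] at h2
      exact mul_eq_right.1 h2
    obtain ⟨u, rfl⟩ := he2
    have hu : Odd u := Nat.not_even_iff_odd.1 fun ⟨w, hw⟩ => h4 ⟨w, by omega⟩
    have hk22 : k = 2 := by
      by_contra hne
      have h8 : 2 ^ 3 ∣ (u + u) * (u + u) := (pow_dvd_pow 2 (by omega)).trans hsq
      have h2 : 2 ∣ u * u := by
        rw [show (u + u) * (u + u) = 2 ^ 2 * (u * u) by ring, pow_succ] at h8
        exact Nat.dvd_of_mul_dvd_mul_left (by norm_num) h8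
      exact Nat.not_even_iff_odd.2 (hu.mul hu) (even_iff_two_dvd.2 h2)
    subst hk22
    have hnot : i₀ x * i₀ a ≠ i₀ a * i₀ x := by
      intro h
      rw [← map_mul, ← map_mul] at h
      have h' : ⁅x, a⁆ = 1 := commutatorElement_eq_one_iff_mul_comm.2 (hi₀ h)
      rw [hec] at h'
      have := orderOf_dvd_of_pow_eq_one h'
      rw [hk] at this
      exact h4 this
    obtain ⟨w, hw⟩ := sq_of_sq_eq_one S N hQ (q x) (by
      rw [← map_mul, hqker, show x * x = x ^ n by simp [hn, pow_two], hzx, hz, map_pow]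
      exact pow_mem haN _)
    exact hnot (comm_four S N haN (by rw [← map_pow, show a ^ 4 = 1 by
      rw [show (4 : ℕ) = orderOf a by rw [hk]; norm_num]; exact pow_orderOf_eq_one a, map_one]) w hw)
  -- `P` is homocyclic
  have hax : a * x = x * a := by
    have h1 : ⁅x, a⁆ = 1 := by rw [hec]; exact hinter ec fc (hec ▸ hfc)
    exact (commutatorElement_eq_one_iff_mul_comm.1 h1).symm
  have hindep : ∀ i j : ℕ, a ^ i * x ^ j = 1 → 2 ^ k ∣ i ∧ 2 ^ k ∣ j := by
    intro i j h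
    obtain ⟨j', hj'⟩ : ∃ j' : ℕ, (x ^ j)⁻¹ = x ^ j' :=
      ⟨j * (orderOf x - 1), inv_eq_of_mul_eq_one_right (by
        rw [← pow_add, show j + j * (orderOf x - 1) = j * orderOf x by
            obtain ⟨o, ho⟩ := Nat.exists_eq_succ_of_ne_zero (orderOf_pos x).ne'
            rw [ho, Nat.succ_eq_add_one, Nat.add_sub_cancel, Nat.mul_succ, add_comm], mul_comm, pow_mul,
          pow_orderOf_eq_one, one_pow])⟩
    have h1 := hinter i j' (by rw [← hj']; exact eq_inv_of_mul_eq_one_left h)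
    rw [h1, one_mul] at h
    exact ⟨hk ▸ orderOf_dvd_of_pow_eq_one h1, hxk ▸ orderOf_dvd_of_pow_eq_one h⟩
  have hqx : orderOf (q x) = 2 ^ k := by
    refine Nat.dvd_antisymm (hxk ▸ orderOf_map_dvd q x) ?_
    obtain ⟨i, hi⟩ := hker (x ^ orderOf (q x)) (by rw [map_pow, pow_orderOf_eq_one])
    have h1 := hinter i (orderOf (q x)) hi.symm
    rw [← hxk]
    exact orderOf_dvd_of_pow_eq_one (hi.trans h1)
  by_cases hPS : P = (S : Subgroup G)
  · -- `P` is the Sylow subgroup
    have hqs : ∀ v : (↥(S : Subgroup G) ⧸ N), ∃ j : ℕ, v = q x ^ j := by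
      intro v
      obtain ⟨⟨s, hs⟩, rfl⟩ := QuotientGroup.mk'_surjective N v
      obtain ⟨i, j, hij⟩ := hXY ⟨s, hPS.symm ▸ hs⟩
      refine ⟨j, ?_⟩
      show q ⟨s, hPS.symm ▸ hs⟩ = _
      rw [hij, map_mul, map_pow, map_pow, show q a = 1 from haK, one_pow, one_mul]
    have hk2 : 2 ≤ k := by
      by_contra hlt
      have hk1 : k = 1 := by omega
      have htop : zpowers (q x) = ⊤ := eq_top_iff.2 fun v _ => by
        obtain ⟨j, rfl⟩ := hqs v; exact npow_mem_zpowers _ _
      have := Nat.card_zpowers (q x)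
      rw [htop, card_top, hqx, hk1, pow_one] at this
      omega
    refine ⟨k, hk2, ⟨?_⟩⟩
    haveI : NeZero (2 ^ k) := ⟨by positivity⟩
    have hval : ∀ (c : ↥P), orderOf c = 2 ^ k → ∀ i j : ZMod (2 ^ k),
        c ^ (i + j).val = c ^ i.val * c ^ j.val := fun c hc i j => by
      rw [← pow_add, ZMod.val_add]
      conv_lhs => rw [show (i.val + j.val) % 2 ^ k = (i.val + j.val) % orderOf c by rw [hc], pow_mod_orderOf]
    have hcomm : ∀ i j : ℕ, x ^ i * a ^ j = a ^ j * x ^ i := fun i j =>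
      ((show Commute x a from hax.symm).pow_pow i j).eq
    let f : Multiplicative (ZMod (2 ^ k) × ZMod (2 ^ k)) →* ↥P := MonoidHom.mk'
      (fun v => a ^ (Multiplicative.toAdd v).1.val * x ^ (Multiplicative.toAdd v).2.val)
      fun v w => by
        simp only [toAdd_mul, Prod.fst_add, Prod.snd_add, hval a hk, hval x hxk]
        rw [mul_assoc, mul_assoc, ← mul_assoc (x ^ _) (a ^ _), hcomm, mul_assoc]
    have hf : Function.Bijective f := by
      refine ⟨(injective_iff_map_eq_one f).2 fun v hv => ?_, fun p => ?_⟩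
      · obtain ⟨h1, h2⟩ := hindep _ _ hv
        refine Multiplicative.toAdd.injective (Prod.ext ?_ ?_)
        · exact (ZMod.val_eq_zero _).1 (Nat.eq_zero_of_dvd_of_lt h1 (ZMod.val_lt _))
        · exact (ZMod.val_eq_zero _).1 (Nat.eq_zero_of_dvd_of_lt h2 (ZMod.val_lt _))
      · obtain ⟨i, j, rfl⟩ := hXY p
        refine ⟨Multiplicative.ofAdd ((i : ZMod (2 ^ k)), (j : ZMod (2 ^ k))), ?_⟩
        show a ^ (i : ZMod (2 ^ k)).val * x ^ (j : ZMod (2 ^ k)).val = _
        rw [ZMod.val_natCast, ZMod.val_natCast]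
        conv_lhs => rw [← hk, pow_mod_orderOf, hk, ← hxk, pow_mod_orderOf]
    exact (MulEquiv.subgroupCongr hPS.symm).trans (MulEquiv.ofBijective f hf).symm
  · -- a `2`-element moving `P`
    exfalso
    have hlt := lt_inf_nrm S.2 hyS hPS
    obtain ⟨s, ⟨hsS, hsn⟩, hsP⟩ := SetLike.exists_of_lt hlt
    let K : Subgroup G := ψ.ker.map (nrm P).subtype
    have hKn : nrm P ≤ nrm K := le_nrm_map_ker ψ
    have hPK : P ≤ K := by
      intro p hp
      refine ⟨⟨p, Subgroup.le_normalizer hp⟩, MonoidHom.mem_ker.2 (MulEquiv.ext fun v => ?_), rfl⟩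
      obtain ⟨w, rfl⟩ := QuotientGroup.mk_surjective v
      rw [frattiniAct_mk, MulAut.one_apply]
      have hcm := PGroup.quotient_frattini_commute hP2 (bar ⟨p, hp⟩) (bar w)
      show bar (⟨p, hp⟩ * w * ⟨p, hp⟩⁻¹) = bar w
      rw [map_mul, map_mul, map_inv, hcm.eq, mul_inv_cancel_right]
    have hT : IsSylowIn 2 ((S : Subgroup G) ⊓ nrm P ⊓ K) K :=
      isSylowIn_inf_of_normal (hfull.isSylowIn S.2) (map_subtype_le _) hKn
    obtain ⟨c, hc, m, hm, hgcm⟩ := exists_mul_of_frattini hT (hKn hg)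
    have hcn : c ∈ nrm P := map_subtype_le _ hc
    have hmn : m ∈ nrm P := by
      have := mul_mem (inv_mem hcn) hg
      rwa [hgcm, inv_mul_cancel_left] at this
    have hψm : ψ ⟨m, hmn⟩ = ψ ⟨g, hg⟩ := by
      obtain ⟨c', hc', rfl⟩ := hc
      have : (⟨g, hg⟩ : ↥(nrm P)) = c' * ⟨m, hmn⟩ := Subtype.ext hgcm
      rw [this, map_mul, MonoidHom.mem_ker.1 hc', one_mul]
    obtain ⟨α, β, hβ, hαβ⟩ := Nat.exists_eq_pow_mul_and_not_dvd (orderOf_pos m).ne' 2 (by norm_num)
    have hT' : (S : Subgroup G) ⊓ nrm P ⊓ K = P := by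
      refine (eq_of_le_of_card_ge (le_inf (le_inf hyS Subgroup.le_normalizer) hPK)
        (hmax _ (inf_le_left.trans inf_le_left) ⟨m ^ 2 ^ α, pow_mem hm _, ?_, fun h => ?_⟩)).symm
      · have : orderOf (m ^ 2 ^ α) = β := by
          rw [orderOf_pow_of_dvd (by positivity) (hαβ ▸ dvd_mul_right _ _), hαβ,
            Nat.mul_div_cancel_left _ (by positivity)]
        rw [this]
        exact Nat.not_even_iff_odd.1 fun he => hβ he.two_dvd
      · refine hψ1 ?_
        have h1 : ψ ⟨m ^ 2 ^ α, pow_mem hmn _⟩ = 1 := by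
          refine MulEquiv.ext fun v => ?_
          obtain ⟨w, rfl⟩ := QuotientGroup.mk_surjective v
          rw [frattiniAct_mk, MulAut.one_apply]
          congr 1
          refine Subtype.ext ?_
          show m ^ 2 ^ α * (w : G) * (m ^ 2 ^ α)⁻¹ = w
          rw [← mem_centralizer_iff.1 h w ⟨⟨hyS w.2, Subgroup.le_normalizer w.2⟩, hPK w.2⟩,
            mul_inv_cancel_right]
        have h2 : (⟨m ^ 2 ^ α, pow_mem hmn _⟩ : ↥(nrm P)) = ⟨m, hmn⟩ ^ 2 ^ α := Subtype.ext (by simp)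
        rw [h2, map_pow, hψm] at h1
        exact orderOf_eq_one_iff.1 (Nat.eq_one_of_dvd_coprimes
          ((Nat.coprime_two_left.2 hgo).pow_left α) (orderOf_dvd_of_pow_eq_one h1)
          (orderOf_dvd_of_pow_eq_one hψn))
    -- the action of `s`
    let σ : MulAut ↥P := P.normalizerMonoidHom ⟨s, hsn⟩
    have hσi : ∀ p : ↥P, i₀ (σ p) = (⟨s, hsS⟩ : ↥(S : Subgroup G)) * i₀ p * (⟨s, hsS⟩)⁻¹ :=
      fun p => rfl
    obtain ⟨r, hr⟩ : ∃ r : ℕ, σ a = a ^ r := hker _ ((hqker _).2 (by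
      rw [hσi]; exact (inferInstance : N.Normal).conj_mem _ haN _))
    obtain ⟨t, ht⟩ : ∃ t : ℕ, σ x = a ^ t * x := by
      obtain ⟨t, ht⟩ := hker (σ x * x⁻¹) (by
        rw [map_mul, map_inv, mul_inv_eq_one]
        show (QuotientGroup.mk' N) (i₀ (σ x)) = (QuotientGroup.mk' N) (i₀ x)
        rw [hσi, map_mul, map_mul, map_inv, hQcomm ((QuotientGroup.mk' N) (⟨s, hsS⟩ : ↥(S : Subgroup G))),
          mul_inv_cancel_right])
      exact ⟨t, by rw [← ht, inv_mul_cancel_right]⟩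
    have hsa : ψ ⟨s, hsn⟩ (bar a) = bar a := by
      show bar (σ a) = bar a
      rw [hr, map_pow]
      rcases Nat.even_or_odd r with ⟨u, hu⟩ | ⟨u, hu⟩
      · exfalso
        apply hā
        apply (ψ ⟨s, hsn⟩).injective
        rw [map_one]
        show bar (σ a) = 1
        rw [hr, map_pow, hu, pow_add, ← (Commute.refl (bar a)).mul_pow, hexp, one_pow]
      · rw [hu, pow_succ, two_mul, pow_add, ← (Commute.refl (bar a)).mul_pow, hexp, one_pow, one_mul]
    have ht1 : Odd t := by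
      rw [← Nat.not_even_iff_odd]
      rintro ⟨u, hu⟩
      apply hsP
      rw [← hT']
      refine ⟨⟨hsS, hsn⟩, ⟨s, hsn⟩, MonoidHom.mem_ker.2 (MulEquiv.ext fun v => ?_), rfl⟩
      have hsx : ψ ⟨s, hsn⟩ (bar x) = bar x := by
        show bar (σ x) = bar x
        rw [ht, map_mul, map_pow, hu, pow_add, ← (Commute.refl (bar a)).mul_pow, hexp, one_pow,
          one_mul]
      rcases hall v with h | h | h | h <;> rw [h, MulAut.one_apply]
      · exact map_one _
      · exact hsa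
      · exact hsx
      · rw [map_mul, hsa, hsx]
    have hsx : ψ ⟨s, hsn⟩ (bar x) = bar a * bar x := by
      show bar (σ x) = _
      obtain ⟨u, hu⟩ := ht1
      rw [ht, map_mul, map_pow, hu, pow_succ, two_mul, pow_add, ← (Commute.refl (bar a)).mul_pow,
        hexp, one_pow, one_mul]
    have hs2 : s * s ∈ P := by
      rw [← hT']
      refine ⟨⟨mul_mem hsS hsS, mul_mem hsn hsn⟩, ⟨s, hsn⟩ * ⟨s, hsn⟩,
        MonoidHom.mem_ker.2 (MulEquiv.ext fun v => ?_), rfl⟩
      rw [map_mul, MulAut.mul_apply, MulAut.one_apply]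
      rcases hall v with h | h | h | h <;> rw [h]
      · rw [map_one, map_one]
      · rw [hsa, hsa]
      · rw [hsx, map_mul, hsa, hsx, ← mul_assoc, hexp, one_mul]
      · rw [map_mul, hsa, hsx, map_mul, hsa, map_mul, hsa, hsx, ← mul_assoc (bar a) (bar a), hexp,
          one_mul]
    have hPc : ∀ u v : ↥P, Commute u v := by
      intro u v
      obtain ⟨i, j, rfl⟩ := hXY u
      obtain ⟨i', j', rfl⟩ := hXY v
      have h : Commute a x := hax
      exact Commute.mul_left
        (((Commute.refl a).pow_pow i i').mul_right (h.pow_pow i j'))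
        ((h.symm.pow_pow j i').mul_right ((Commute.refl x).pow_pow j j'))
    have hσσ : ∀ p : ↥P, σ (σ p) = p := fun p => Subtype.ext (by
      show s * (s * (p : G) * s⁻¹) * s⁻¹ = p
      have h1 : (s * s) * (p : G) = p * (s * s) := congrArg Subtype.val (hPc ⟨_, hs2⟩ p).eq
      calc s * (s * (p : G) * s⁻¹) * s⁻¹ = (s * s * p) * (s * s)⁻¹ := by group
        _ = p := by rw [h1, mul_inv_cancel_right])
    -- the relations
    have hrr : 2 ^ k ∣ t * (r + 1) := by
      have h := hσσ x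
      rw [ht, map_mul, map_pow, hr, ht, ← mul_assoc, ← pow_mul, ← pow_add] at h
      rw [← hk, orderOf_dvd_iff_pow_eq_one]
      rw [mul_eq_right] at h
      rw [← h]; ring_nf
    obtain ⟨i, j, hij⟩ := hXY ⟨s * s, hs2⟩
    have hjev : Even j := by
      have h1 : σ ⟨s * s, hs2⟩ = ⟨s * s, hs2⟩ := Subtype.ext (by
        show s * (s * s) * s⁻¹ = s * s
        group)
      have h2 : ψ ⟨s, hsn⟩ (bar (a ^ i * x ^ j)) = bar (a ^ i * x ^ j) := by
        show bar (σ _) = _
        rw [← hij, h1]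
      rw [map_mul, map_pow, map_pow, map_mul, map_pow, map_pow, hsa, hsx,
        (PGroup.quotient_frattini_commute hP2 (bar a) (bar x)).mul_pow] at h2
      rw [← mul_assoc, mul_left_inj, mul_eq_left] at h2
      exact ((hpar j 0) (by rw [pow_zero, mul_one, map_pow, h2])).1
    have hπs : (QuotientGroup.mk' N) (⟨s, hsS⟩ : ↥(S : Subgroup G)) * (QuotientGroup.mk' N) ⟨s, hsS⟩ = q x ^ j := by
      rw [← map_mul]
      show q ⟨s * s, hs2⟩ = _
      rw [hij, map_mul, map_pow, map_pow, show q a = 1 from haK, one_pow, one_mul]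
    have hsquare : ∀ n : ↥(S : Subgroup G), n ∈ N → n ^ 4 = 1 →
        (∃ w : (↥(S : Subgroup G) ⧸ N), q x = w * w) → i₀ x * n = n * i₀ x := fun n hn h4 ⟨w, hw⟩ =>
      comm_four S N hn h4 w hw
    rcases Nat.lt_or_ge k 2 with hk2 | hk2
    · obtain rfl : k = 1 := by omega
      have hqx2 : q x * q x = 1 := by rw [← pow_two, ← pow_orderOf_eq_one (q x), hqx, pow_one]
      have hqx1 : q x ≠ 1 := fun h => by rw [h, orderOf_one] at hqx; norm_num at hqx
      have hs1 : (QuotientGroup.mk' N) (⟨s, hsS⟩ : ↥(S : Subgroup G)) * (QuotientGroup.mk' N) ⟨s, hsS⟩ = 1 := by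
        rw [hπs]
        obtain ⟨u, rfl⟩ := hjev
        rw [pow_add, ← (Commute.refl (q x)).mul_pow, hqx2, one_pow]
      obtain ⟨w, hwN, hwi, hwP⟩ : ∃ w : ↥(S : Subgroup G), w ∈ N ∧
          w * i₀ x * w⁻¹ = i₀ (σ x) ∧ ∃ p : ↥P, w * w = i₀ p := by
        by_cases h : (QuotientGroup.mk' N) (⟨s, hsS⟩ : ↥(S : Subgroup G)) = 1
        · exact ⟨⟨s, hsS⟩, (QuotientGroup.eq_one_iff _).1 h, (hσi x).symm, ⟨s * s, hs2⟩, rfl⟩
        · have hsx' := eq_of_involution S N hs1 h hqx2 hqx1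
          refine ⟨⟨s, hsS⟩ * i₀ x, (QuotientGroup.eq_one_iff _).1 ?_, ?_, ?_⟩
          · show (QuotientGroup.mk' N) _ = 1
            rw [map_mul, hsx']
            exact hqx2
          · rw [hσi]; group
          · refine ⟨σ x * ⟨s * s, hs2⟩ * x, ?_⟩
            rw [map_mul, map_mul, hσi]
            show _ = _ * (⟨s, hsS⟩ * ⟨s, hsS⟩ : ↥(S : Subgroup G)) * _
            group
      obtain ⟨p, hp⟩ := hwP
      have hp2 : p * p = 1 := by
        obtain ⟨i, j, rfl⟩ := hXY p
        have ha2 : a * a = 1 := by rw [← pow_two, ← pow_orderOf_eq_one a, hk, pow_one]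
        have hx2' : x * x = 1 := by rw [← pow_two, ← pow_orderOf_eq_one x, hxk, pow_one]
        rw [(hPc _ _).mul_mul_mul_comm, ← (Commute.refl a).mul_pow, ← (Commute.refl x).mul_pow, ha2,
          hx2', one_pow, one_pow, one_mul]
      have h4 : w ^ 4 = 1 := by
        rw [show (4 : ℕ) = 2 + 2 from rfl, pow_add, pow_two, hp, ← map_mul, hp2, map_one]
      have hcm := hsquare w hwN h4 (sq_of_sq_eq_one S N hQ _ hqx2)
      rw [← hcm, mul_inv_cancel_right] at hwi
      have h := hi₀ hwi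
      rw [ht, eq_comm, mul_eq_right, ← orderOf_dvd_iff_pow_eq_one, hk, pow_one] at h
      exact Nat.not_even_iff_odd.2 ht1 (even_iff_two_dvd.2 h)
    · have hn4 : ∃ u : ℕ, orderOf (a ^ u) = 4 := ⟨2 ^ (k - 2), by
        rw [orderOf_pow_of_dvd (by positivity) (hk ▸ pow_dvd_pow 2 (by omega)), hk,
          Nat.pow_div (by omega) two_pos, show k - (k - 2) = 2 by omega]; norm_num⟩
      obtain ⟨u, hu4⟩ := hn4
      have hau : i₀ (a ^ u) ∈ N := by rw [map_pow]; exact pow_mem haN u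
      have hau4 : i₀ (a ^ u) ^ 4 = 1 := by
        rw [← map_pow, show (4 : ℕ) = orderOf (a ^ u) from hu4.symm, pow_orderOf_eq_one, map_one]
      have hr2 : 4 ∣ r + 1 := by
        have h2k : 4 ∣ t * (r + 1) := (show 2 ^ 2 ∣ 2 ^ k from pow_dvd_pow 2 hk2).trans hrr
        exact ((Nat.coprime_two_left.2 ht1).pow_left 2).dvd_of_dvd_mul_left h2k
      have hns : ¬ ∃ w : (↥(S : Subgroup G) ⧸ N), (QuotientGroup.mk' N) (⟨s, hsS⟩ : ↥(S : Subgroup G)) = w * w := by
        rintro ⟨w, hw⟩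
        have h1 := comm_four S N hau hau4 w hw
        have h2 : σ (a ^ u) = a ^ u := hi₀ (by rw [hσi, h1, mul_inv_cancel_right])
        rw [map_pow, hr, ← pow_mul] at h2
        have h3 : (a ^ u) ^ (r + 1) = 1 := by
          rw [← orderOf_dvd_iff_pow_eq_one, hu4]; exact hr2
        rw [pow_succ, ← pow_mul, mul_comm u r, h2, ← pow_two] at h3
        have := orderOf_dvd_of_pow_eq_one h3
        rw [hu4] at this
        norm_num at this
      obtain ⟨-, hgenQ⟩ := gen_of_not_sq S N hQ _ hns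
      by_cases hxsq : ∃ w : (↥(S : Subgroup G) ⧸ N), q x = w * w
      · obtain ⟨w, hw⟩ := hxsq
        obtain ⟨l, rfl⟩ := hgenQ w
        rw [← (Commute.refl _).mul_pow, hπs, ← pow_mul] at hw
        obtain ⟨v, rfl⟩ := hjev
        have hd : (2 ^ k : ℤ) ∣ (((v + v) * l : ℕ) : ℤ) - 1 := by
          rw [show (2 ^ k : ℤ) = ((orderOf (q x) : ℕ) : ℤ) by rw [hqx]; push_cast; rfl,
            orderOf_dvd_iff_zpow_eq_one, zpow_sub_one, zpow_natCast, ← hw, mul_inv_cancel]
        have h2 : (2 : ℤ) ∣ (((v + v) * l : ℕ) : ℤ) - 1 :=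
          (dvd_pow_self 2 (by omega : k ≠ 0)).trans hd
        push_cast at h2
        have h3 : (2 : ℤ) ∣ ((v : ℤ) + v) * l := ⟨(v : ℤ) * l, by ring⟩
        have := dvd_sub h3 h2
        norm_num at this
      · obtain ⟨-, hgenx⟩ := gen_of_not_sq S N hQ _ hxsq
        obtain ⟨l, hl⟩ := hgenx ((QuotientGroup.mk' N) (⟨s, hsS⟩ : ↥(S : Subgroup G)))
        have hsl : (i₀ (x ^ l))⁻¹ * ⟨s, hsS⟩ ∈ N := by
          rw [← QuotientGroup.eq_one_iff]
          show (QuotientGroup.mk' N) _ = 1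
          rw [map_mul, map_inv, hl, map_pow, inv_mul_eq_one]
          exact (map_pow q x l)
        apply hns
        refine absurd ?_ (fun h : σ (a ^ u) = a ^ u => ?_)
        · obtain ⟨m, hm⟩ : ∃ m : ↥(S : Subgroup G), m ∈ N ∧ (⟨s, hsS⟩ : ↥(S : Subgroup G)) = i₀ (x ^ l) * m :=
            ⟨_, hsl, by rw [mul_inv_cancel_left]⟩
          apply hi₀
          rw [hσi, hm.2]
          have hN' : m * i₀ (a ^ u) = i₀ (a ^ u) * m := by
            obtain ⟨γ, hγ⟩ := IsCyclic.exists_generator (α := ↥N)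
            obtain ⟨i, hi⟩ := mem_zpowers_iff.1 (hγ ⟨m, hm.1⟩)
            obtain ⟨i', hi'⟩ := mem_zpowers_iff.1 (hγ ⟨_, hau⟩)
            exact congrArg Subtype.val (show (⟨m, hm.1⟩ : ↥N) * ⟨_, hau⟩ = ⟨_, hau⟩ * ⟨m, hm.1⟩ by
              rw [← hi, ← hi']; exact zpow_mul_comm γ i i')
          have hx' : i₀ (x ^ l) * i₀ (a ^ u) = i₀ (a ^ u) * i₀ (x ^ l) := by
            rw [← map_mul, ← map_mul, (hPc (x ^ l) (a ^ u)).eq]
          calc i₀ (x ^ l) * m * i₀ (a ^ u) * (i₀ (x ^ l) * m)⁻¹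
              = i₀ (x ^ l) * (m * i₀ (a ^ u)) * m⁻¹ * (i₀ (x ^ l))⁻¹ := by group
            _ = i₀ (x ^ l) * i₀ (a ^ u) * (i₀ (x ^ l))⁻¹ := by rw [hN']; group
            _ = i₀ (a ^ u) := by rw [hx', mul_inv_cancel_right]
        · rw [map_pow, hr, ← pow_mul] at h
          have h3 : (a ^ u) ^ (r + 1) = 1 := by
            rw [← orderOf_dvd_iff_pow_eq_one, hu4]; exact hr2
          rw [pow_succ, ← pow_mul, mul_comm u r, h, ← pow_two] at h3
          have := orderOf_dvd_of_pow_eq_one h3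
          rw [hu4] at this
          norm_num at this

end Metacyclic

end Cfsg.Agent.FTDown
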