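import Cfsg.Agent.FTDown.ComponentBalance
import Cfsg.Agent.Lib.Components.GenFitting

/-!
A standard subgroup of a group with trivial core, given the odd order theorem.
-/

set_option autoImplicit false
set_option linter.style.haveILetI false

namespace Cfsg.Agent.FTDown

open Cfsg Subgroup Cfsg.Agent.Components

universe u

variable {G : Type u} [Group G] [Finite G]

theorem pLayer_two_eq_layer (hFT : OddOrderGlue.FeitThompson.{u}) (hO : oddCore G = ⊥) :
    pLayer 2 G = layer G := by
  haveI : Fact (Nat.Prime 2) := ⟨Nat.prime_two⟩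
  refine le_antisymm (pLayer_le_layer_of_commutator_eq_bot (p := 2) ?_) (layer_le_iff.mpr ?_)
  · rw [show pPrimeCore 2 G = ⊥ from hO, Subgroup.commutator_bot_right]
  · intro L hL
    refine component_le_pLayer hL ?_
    by_contra hd
    exact component_not_isSolvable hL (hFT _ (Nat.odd_iff.2 (by omega)))

omit [Finite G] in
theorem le_centralizer_singleton {S : Subgroup G} {z : G} :
    S ≤ Subgroup.centralizer ({z} : Set G) ↔ ∀ s ∈ S, s * z = z * s :=
  ⟨fun h _ hs => mem_centralizer_singleton_iff.mp (h hs),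
    fun h _ hs => mem_centralizer_singleton_iff.mpr (h _ hs)⟩

omit [Finite G] in
theorem eq_and_eq_of_mul_eq {D E : Subgroup G} (h : D ⊓ E = ⊥) {a a' b b' : G} (ha : a ∈ D)
    (ha' : a' ∈ D) (hb : b ∈ E) (hb' : b' ∈ E) (he : a * b = a' * b') : a = a' ∧ b = b' := by
  have h1 : a'⁻¹ * a = b' * b⁻¹ := by
    rw [eq_mul_inv_iff_mul_eq, mul_assoc, he, inv_mul_cancel_left]
  have h2 : a'⁻¹ * a ∈ D ⊓ E :=
    Subgroup.mem_inf.mpr ⟨mul_mem (inv_mem ha') ha, h1 ▸ mul_mem hb' (inv_mem hb)⟩
  rw [h, Subgroup.mem_bot, inv_mul_eq_one] at h2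
  subst h2
  exact ⟨rfl, mul_left_cancel he⟩

/-- A subgroup `S` containing a standard subgroup `A`, subnormal, and centralized by an involution,
forces `A` to be a component. -/
theorem isComponent_of_le_centralizer {A : Subgroup G} (hA : IsStandardSubgroup A) {S : Subgroup G}
    (hAS : A ≤ S) (hS : S.IsSubnormal) {z : G} (hz : orderOf z = 2)
    (hSz : S ≤ Subgroup.centralizer ({z} : Set G)) : IsComponent A := by
  obtain ⟨hAQ, ⟨-, htight⟩, -, hNN⟩ := hA
  refine ⟨?_, hAQ⟩
  have hzK : z ∈ Subgroup.centralizer (A : Set G) :=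
    mem_centralizer_iff.mpr fun a ha => mem_centralizer_singleton_iff.mp (hSz (hAS ha))
  refine .step A S hAS hS ((normal_subgroupOf_iff_le_normalizer hAS).mpr fun g hg => ?_)
  rw [hNN]
  by_contra hgN
  have hmem : z ∈ Subgroup.centralizer (A : Set G) ⊓
      (Subgroup.centralizer (A : Set G)).map (MulAut.conj g).toMonoidHom :=
    Subgroup.mem_inf.mpr ⟨hzK, ⟨z, hzK, by
      show g * z * g⁻¹ = z
      rw [mem_centralizer_singleton_iff.mp (hSz hg), mul_inv_cancel_right]⟩⟩
  have hdvd := Subgroup.orderOf_dvd_natCard _ hmem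
  rw [hz] at hdvd
  exact Nat.not_even_iff_odd.mpr (htight g hgN) (even_iff_two_dvd.mpr hdvd)

/-- If a subnormal product `S` of components contains a standard subgroup which is not a component,
then every component lies in `S` and the layer has trivial centralizer. -/
theorem layer_eq_and_centralizer_eq_bot (hFT : OddOrderGlue.FeitThompson.{u}) {A : Subgroup G}
    (hA : IsStandardSubgroup A) (hO : oddCore G = ⊥) (hnc : ¬ IsComponent A) {S : Subgroup G}
    (hAS : A ≤ S) (hS : S.IsSubnormal) (hSE : S ≤ layer G)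
    (hcomm : ∀ E : Subgroup G, IsComponent E → ¬ E ≤ S → S ≤ Subgroup.centralizer (E : Set G)) :
    layer G = S ∧ Subgroup.centralizer (layer G : Set G) = ⊥ := by
  haveI : Fact (Nat.Prime 2) := ⟨Nat.prime_two⟩
  have hlayer : layer G = S := by
    refine le_antisymm (layer_le_iff.mpr fun E hE => ?_) hSE
    by_contra hES
    have hd : 2 ∣ Nat.card E := by
      by_contra hd
      exact component_not_isSolvable hE (hFT _ (Nat.odd_iff.2 (by omega)))
    obtain ⟨e, he⟩ := exists_prime_orderOf_dvd_card' (G := E) 2 hd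
    refine hnc (isComponent_of_le_centralizer hA hAS hS (z := (e : G))
      (by rw [Subgroup.orderOf_coe, he]) (le_centralizer_singleton.mpr fun s hs => ?_))
    exact (mem_centralizer_iff.mp (hcomm E hE hES hs) e e.2).symm
  have hF : fittingSubgroup G = ⊥ := by
    by_contra hF
    have hp : IsPGroup 2 (fittingSubgroup G) := by
      rw [fitting_eq_pCore_of_pPrimeCore_eq_bot (p := 2) hO]
      exact Thompson.isPGroup_pCore
    have h1 := (Subgroup.one_lt_card_iff_ne_bot _).mpr hF
    obtain ⟨n, hcard⟩ := IsPGroup.iff_card.mp hp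
    have hn : n ≠ 0 := by
      rintro rfl
      rw [hcard, pow_zero] at h1
      exact lt_irrefl _ h1
    obtain ⟨e, he⟩ := exists_prime_orderOf_dvd_card' (G := fittingSubgroup G) 2
      (hcard ▸ dvd_pow_self 2 hn)
    refine hnc (isComponent_of_le_centralizer hA hAS hS (z := (e : G))
      (by rw [Subgroup.orderOf_coe, he]) (le_centralizer_singleton.mpr fun s hs => ?_))
    exact (mem_centralizer_iff.mp (layer_le_centralizer_fitting (hSE hs)) e e.2).symm
  refine ⟨hlayer, ?_⟩
  have hle : Subgroup.centralizer (layer G : Set G) ≤ layer G := by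
    have h := centralizer_generalizedFitting_le (G := G)
    rwa [generalizedFittingSubgroup, hF, sup_bot_eq] at h
  rw [eq_bot_iff, ← hF]
  haveI : IsMulCommutative ↥(Subgroup.centralizer (layer G : Set G)) :=
    ⟨⟨fun a b => Subtype.ext (mem_centralizer_iff.mp b.2 a (hle a.2))⟩⟩
  refine le_sSup ⟨inferInstance, ?_⟩
  open scoped IsMulCommutative in exact CommGroup.isNilpotent

omit [Finite G] in
theorem isSimple_component {D : Subgroup G} (hD : IsComponent D)
    (hZ : ∀ z ∈ D, (∀ d ∈ D, d * z = z * d) → z = 1) :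
    IsSimpleGroup ↥D ∧ ¬ IsMulCommutative ↥D := by
  haveI := nontrivial_of_isQuasisimple hD.2
  refine ⟨⟨fun N hN => ?_⟩, not_isMulCommutative_of_isQuasisimple hD.2⟩
  rcases normal_eq_top_or_le_center hD.2 N with h | h
  · exact Or.inr h
  · refine Or.inl (eq_bot_iff.mpr fun x hx => Subgroup.mem_bot.mpr (Subtype.ext ?_))
    exact hZ x x.2 fun d hd =>
      congrArg Subtype.val (Subgroup.mem_center_iff.mp (h hx) ⟨d, hd⟩)

/-- The statement of S1347, given the odd order theorem. -/
theorem standard_subgroup_trichotomy (hFT : OddOrderGlue.FeitThompson.{u}) (A : Subgroup G)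
    (hA : IsStandardSubgroup A) (hO : oddCore G = ⊥) (t : G) (ht : orderOf t = 2)
    (htA : t ∈ Subgroup.centralizer (A : Set G)) :
    A.Normal ∨ (∃ X : Subgroup G, IsSimpleGroup ↥X ∧ ¬ IsMulCommutative ↥X ∧
        Nonempty (↥X ≃* ↥A) ∧
        (∀ a ∈ X, ∀ b ∈ X.map (MulAut.conj t).toMonoidHom, a * b = b * a) ∧
        X ⊓ X.map (MulAut.conj t).toMonoidHom = ⊥ ∧
        X ⊔ X.map (MulAut.conj t).toMonoidHom = layer G ∧
        Subgroup.centralizer (A : Set G) = Subgroup.zpowers t) ∨
      (A ≤ layer G ∧ IsSimpleGroup ↥(layer G) ∧ ¬ IsMulCommutative ↥(layer G)) := by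
  classical
  haveI : Fact (Nat.Prime 2) := ⟨Nat.prime_two⟩
  by_cases hN : A.Normal
  · exact Or.inl hN
  refine Or.inr ?_
  obtain ⟨hAQ, ⟨-, htight⟩, hconj, hNN⟩ := id hA
  have hnc : ¬ IsComponent A := by
    intro hc
    refine hN (Subgroup.normalizer_eq_top_iff.mp (eq_top_iff.mpr fun g _ => ?_))
    refine map_conj_eq_iff_mem_normalizer.mp ?_
    by_contra hne
    rcases component_eq_or_commutator_eq_bot hc (component_map_conj g hc) with h | h
    · exact hne h.symm
    · exact hconj g hne h
  have hAt : A ≤ Subgroup.centralizer ({t} : Set G) :=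
    le_centralizer_singleton.mpr fun a ha => mem_centralizer_iff.mp htA a ha
  have hCt : Subgroup.centralizer ({t} : Set G) ≤ Subgroup.normalizer (A : Set G) := by
    intro g hg
    rw [hNN]
    by_contra hgN
    have hmem : t ∈ Subgroup.centralizer (A : Set G) ⊓
        (Subgroup.centralizer (A : Set G)).map (MulAut.conj g).toMonoidHom :=
      Subgroup.mem_inf.mpr ⟨htA, ⟨t, htA, by
        show g * t * g⁻¹ = t
        rw [mem_centralizer_singleton_iff.mp hg, mul_inv_cancel_right]⟩⟩
    have hdvd := Subgroup.orderOf_dvd_natCard _ hmem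
    rw [ht] at hdvd
    exact Nat.not_even_iff_odd.mpr (htight g hgN) (even_iff_two_dvd.mpr hdvd)
  have hAcomp : IsComponent (A.subgroupOf (Subgroup.centralizer ({t} : Set G))) := by
    haveI := (normal_subgroupOf_iff_le_normalizer hAt).mpr hCt
    exact ⟨Subgroup.Normal.isSubnormal inferInstance,
      isQuasisimple_of_mulEquiv (Subgroup.subgroupOfEquivOfLe hAt).symm hAQ⟩
  obtain ⟨D, hD, hcase⟩ :=
    component_centralizer_cases hFT (pLayer_two_eq_layer hFT hO) t ht A hAt hAcomp
  rcases hcase with h | ⟨hlt, -⟩ | ⟨hne, hAeq⟩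
  · exact absurd (h ▸ hD) hnc
  · refine Or.inr ?_
    obtain ⟨hlayer, hC⟩ := layer_eq_and_centralizer_eq_bot hFT hA hO hnc hlt.le hD.1
      (component_le_layer hD) fun E hE hED =>
        component_le_centralizer hD hE fun h => hED h.ge
    obtain ⟨h1, h2⟩ := isSimple_component hD fun z hz hzc => by
      have : z ∈ Subgroup.centralizer (layer G : Set G) :=
        mem_centralizer_iff.mpr fun d hd => hzc d (hlayer.le hd)
      rwa [hC, Subgroup.mem_bot] at this
    rw [hlayer]
    exact ⟨hlt.le, h1, h2⟩
  · refine Or.inl ?_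
    set D' := D.map (MulAut.conj t).toMonoidHom with hD'
    have hD'c : IsComponent D' := component_map_conj t hD
    have htt : t * t = 1 := by rw [← pow_two, ← ht, pow_orderOf_eq_one]
    have hD't : D'.map (MulAut.conj t).toMonoidHom = D := by
      rw [hD', map_conj_map_conj, htt, map_conj_one]
    have hcom : ∀ a ∈ D, ∀ b ∈ D', a * b = b * a := fun a ha b hb =>
      (mem_centralizer_iff.mp (component_le_centralizer hD hD'c (Ne.symm hne) ha) b hb).symm
    have hAS : A ≤ D ⊔ D' := fun a ha => by
      rw [hAeq] at ha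
      obtain ⟨x, -, rfl⟩ := ha
      exact x.2.1
    have hSsub : (D ⊔ D').IsSubnormal := by
      have hle : D ⊔ D' ≤ layer G := sup_le (component_le_layer hD) (component_le_layer hD'c)
      refine .step _ (layer G) hle (Subgroup.Normal.isSubnormal inferInstance) ?_
      exact (normal_subgroupOf_iff_le_normalizer hle).mpr fun g hg => by
        refine map_conj_eq_iff_mem_normalizer.mp ?_
        rw [Subgroup.map_sup, map_conj_eq_iff_mem_normalizer.mpr (layer_le_normalizer hD hg),
          map_conj_eq_iff_mem_normalizer.mpr (layer_le_normalizer hD'c hg)]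
    obtain ⟨hlayer, hC⟩ := layer_eq_and_centralizer_eq_bot hFT hA hO hnc hAS hSsub
      (sup_le (component_le_layer hD) (component_le_layer hD'c)) fun E hE hES => by
        refine sup_le (component_le_centralizer hD hE ?_) (component_le_centralizer hD'c hE ?_)
        · exact fun h => hES (h ▸ le_sup_left)
        · exact fun h => hES (h ▸ le_sup_right)
    have hC' : ∀ z : G, (∀ d ∈ D, d * z = z * d) → (∀ d ∈ D', d * z = z * d) → z = 1 := by
      intro z h1 h2
      have hz : z ∈ Subgroup.centralizer (layer G : Set G) := by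
        refine mem_centralizer_iff.mpr fun d hd => ?_
        exact mem_centralizer_singleton_iff.mp
          ((hlayer.le.trans (sup_le (le_centralizer_singleton.mpr h1)
            (le_centralizer_singleton.mpr h2))) hd)
      rwa [hC, Subgroup.mem_bot] at hz
    have hdisj : D ⊓ D' = ⊥ := eq_bot_iff.mpr fun z hz => Subgroup.mem_bot.mpr
      (hC' z (fun d hd => hcom d hd z hz.2) (fun d hd => (hcom z hz.1 d hd).symm))
    obtain ⟨hsimp, hnab⟩ := isSimple_component hD fun z hz hzc =>
      hC' z hzc fun d hd => (hcom z hz d hd).symm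
    have hmemD' : ∀ d ∈ D, t * d * t⁻¹ ∈ D' := fun d hd => ⟨d, hd, rfl⟩
    let φ : ↥D →* G := MonoidHom.mk' (fun d => (d : G) * (t * d * t⁻¹)) fun a b => by
      calc ((a * b : ↥D) : G) * (t * ((a * b : ↥D) : G) * t⁻¹)
          = (a : G) * ((b : G) * (t * a * t⁻¹)) * (t * b * t⁻¹) := by
            rw [Subgroup.coe_mul]; group
        _ = _ := by rw [hcom b b.2 _ (hmemD' a a.2)]; group
    have hφ : Function.Injective φ := fun a b h =>
      Subtype.ext (eq_and_eq_of_mul_eq hdisj a.2 b.2 (hmemD' a a.2) (hmemD' b b.2) h).1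
    set W := (D ⊔ D') ⊓ Subgroup.centralizer ({t} : Set G) with hW
    have hWeq : W = φ.range := by
      apply le_antisymm
      · rintro x ⟨hx, hxt⟩
        have hx' : x ∈ ((D ⊔ D' : Subgroup G) : Set G) := hx
        rw [Subgroup.coe_mul_of_right_le_normalizer_left D D'
          ((component_le_centralizer hD'c hD hne).trans (Subgroup.centralizer_le_normalizer _))]
          at hx'
        obtain ⟨d, hd, e, he, rfl⟩ := hx'
        refine ⟨⟨d, hd⟩, ?_⟩
        have hte : t * e * t⁻¹ ∈ D := hD't.le ⟨e, he, rfl⟩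
        have heq : (t * e * t⁻¹) * (t * d * t⁻¹) = d * e := by
          rw [hcom _ hte _ (hmemD' d hd)]
          calc (t * d * t⁻¹) * (t * e * t⁻¹) = (t * (d * e)) * t⁻¹ := by group
            _ = d * e := by
              rw [← mem_centralizer_singleton_iff.mp hxt, mul_inv_cancel_right]
        exact congrArg (d * ·) (eq_and_eq_of_mul_eq hdisj hte hd (hmemD' d hd) he heq).2
      · rintro x ⟨d, rfl⟩
        refine Subgroup.mem_inf.mpr ⟨Subgroup.mul_mem_sup d.2 (hmemD' d d.2),
          mem_centralizer_singleton_iff.mpr ?_⟩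
        have h1 : t⁻¹ = t := inv_eq_of_mul_eq_one_right htt
        have h2 := hcom d d.2 _ (hmemD' d d.2)
        show (d : G) * (t * d * t⁻¹) * t = t * ((d : G) * (t * d * t⁻¹))
        calc (d : G) * (t * d * t⁻¹) * t = (d : G) * t * d := by group
          _ = t * ((t * d * t⁻¹) * d) := by rw [h1]; simp only [← mul_assoc, htt, one_mul]
          _ = _ := by rw [← h2]
    haveI : IsSimpleGroup ↥W := by
      haveI := hsimp
      exact (hWeq ▸ (MonoidHom.ofInjective hφ).isSimpleGroup_congr.mp inferInstance :)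
    have hWab : ¬ IsMulCommutative ↥W := by
      intro h
      refine hnab ⟨⟨fun a b => hφ ?_⟩⟩
      rw [map_mul, map_mul]
      exact congrArg Subtype.val (h.is_comm.comm (⟨φ a, hWeq.ge ⟨a, rfl⟩⟩ : ↥W)
        ⟨φ b, hWeq.ge ⟨b, rfl⟩⟩)
    have hAW : A = φ.range := by
      rw [hAeq, ← hWeq]
      have htop : layer ↥W = ⊤ := eq_top_iff.mpr (component_le_layer
        ⟨Subgroup.Normal.isSubnormal inferInstance,
          isQuasisimple_of_mulEquiv Subgroup.topEquiv.symm (isQuasisimple_of_isSimpleGroup hWab)⟩)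
      rw [htop, ← MonoidHom.range_eq_map, Subgroup.range_subtype]
    refine ⟨D, hsimp, hnab, ⟨(MonoidHom.ofInjective hφ).trans (MulEquiv.subgroupCongr hAW.symm)⟩,
      hcom, hdisj, hlayer.symm, le_antisymm (fun k hk => ?_) (Subgroup.zpowers_le.mpr htA)⟩
    have hfix : ∀ k ∈ Subgroup.centralizer (A : Set G),
        D.map (MulAut.conj k).toMonoidHom = D → k = 1 := by
      intro k hk hkD
      have hkD' : D'.map (MulAut.conj k).toMonoidHom = D' := by
        have hc := component_map_conj k hD'c
        by_contra hne'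
        have hED : D'.map (MulAut.conj k).toMonoidHom ≠ D := fun h =>
          hne (Subgroup.map_injective (MulEquiv.injective _) (h.trans hkD.symm))
        refine component_not_isSolvable hc ?_
        have hle : D'.map (MulAut.conj k).toMonoidHom ≤
            Subgroup.centralizer (layer G : Set G) := Subgroup.le_centralizer_iff.mpr
          (hlayer.le.trans (sup_le (component_le_centralizer hD hc hED.symm)
            (component_le_centralizer hD'c hc (Ne.symm hne'))))
        rw [le_bot_iff.mp (hle.trans hC.le)]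
        infer_instance
      have key : ∀ d ∈ D, k * d * k⁻¹ = d ∧ k * (t * d * t⁻¹) * k⁻¹ = t * d * t⁻¹ := by
        intro d hd
        have hmem : φ ⟨d, hd⟩ ∈ A := hAW.ge ⟨_, rfl⟩
        have hck : φ ⟨d, hd⟩ * k = k * φ ⟨d, hd⟩ := mem_centralizer_iff.mp hk _ hmem
        refine eq_and_eq_of_mul_eq hdisj (hkD.le ⟨d, hd, rfl⟩) hd
          (hkD'.le ⟨_, hmemD' d hd, rfl⟩) (hmemD' d hd) ?_
        calc k * d * k⁻¹ * (k * (t * d * t⁻¹) * k⁻¹) = k * φ ⟨d, hd⟩ * k⁻¹ := by
              simp [φ, mul_assoc]
          _ = d * (t * d * t⁻¹) := by rw [← hck, mul_inv_cancel_right]; rfl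
      refine hC' k (fun d hd => ?_) ?_
      · exact (mul_inv_eq_iff_eq_mul.mp (key d hd).1).symm
      · rintro _ ⟨d, hd, rfl⟩
        exact (mul_inv_eq_iff_eq_mul.mp (key d hd).2).symm
    have hkc := component_map_conj k hD
    by_cases hkD : D.map (MulAut.conj k).toMonoidHom = D
    · rw [hfix k hk hkD]; exact one_mem _
    · have hkD' : D.map (MulAut.conj k).toMonoidHom = D' := by
        by_contra hne'
        refine component_not_isSolvable hkc ?_
        have hle : D.map (MulAut.conj k).toMonoidHom ≤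
            Subgroup.centralizer (layer G : Set G) := Subgroup.le_centralizer_iff.mpr
          (hlayer.le.trans (sup_le (component_le_centralizer hD hkc (Ne.symm hkD))
            (component_le_centralizer hD'c hkc (Ne.symm hne'))))
        rw [le_bot_iff.mp (hle.trans hC.le)]
        infer_instance
      have h1 := hfix (t * k) (mul_mem htA hk) (by
        rw [← map_conj_map_conj, hkD', hD't])
      have : k = t⁻¹ := eq_inv_of_mul_eq_one_right h1
      rw [this]
      exact inv_mem (Subgroup.mem_zpowers t)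

end Cfsg.Agent.FTDown
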